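import Mathlib

/-!
Odd transposition sets with trios: elementary facts.

`Base D`: involutions, invariant under conjugation by members, any two members commute or have
product of odd order, every member has a commuting partner such that the product is again a member,
and no member commutes with all members.
-/

set_option autoImplicit false

namespace Cfsg.Agent.Lib.OddTransp84

variable {G : Type*} [Group G]

/-- The standing hypothesis on a set of involutions. -/
structure Base (D : Set G) : Prop where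
  inv : ∀ a ∈ D, a * a = 1
  ne : ∀ a ∈ D, a ≠ 1
  conj : ∀ a ∈ D, ∀ b ∈ D, a * b * a ∈ D
  pair : ∀ a ∈ D, ∀ b ∈ D, Commute a b ∨ Odd (orderOf (a * b))
  trio : ∀ y ∈ D, ∃ y' ∈ D, y' ≠ y ∧ Commute y' y ∧ y * y' ∈ D
  nc : ∀ y ∈ D, ∃ v ∈ D, ¬ Commute v y

/-- Same commuting members. -/
def Eqv (D : Set G) (a b : G) : Prop := ∀ v ∈ D, (Commute v a ↔ Commute v b)

lemma Eqv.refl {D : Set G} (a : G) : Eqv D a a := fun _ _ => Iff.rfl

lemma Eqv.symm {D : Set G} {a b : G} (h : Eqv D a b) : Eqv D b a := fun v hv => (h v hv).symm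

lemma Eqv.trans {D : Set G} {a b c : G} (h : Eqv D a b) (h' : Eqv D b c) : Eqv D a c :=
  fun v hv => (h v hv).trans (h' v hv)

/-- Commuting adjacency inside `D`. -/
def Adj (D : Set G) (a b : G) : Prop := a ∈ D ∧ b ∈ D ∧ Commute a b

/-- Same component of the commuting graph. -/
def Reach (D : Set G) : G → G → Prop := Relation.ReflTransGen (Adj D)

lemma Reach.of_comm {D : Set G} {a b : G} (ha : a ∈ D) (hb : b ∈ D) (h : Commute a b) :
    Reach D a b := Relation.ReflTransGen.single ⟨ha, hb, h⟩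

lemma Reach.trans {D : Set G} {a b c : G} (h : Reach D a b) (h' : Reach D b c) : Reach D a c :=
  Relation.ReflTransGen.trans h h'

lemma Reach.symm {D : Set G} {a b : G} (h : Reach D a b) : Reach D b a := by
  induction h with
  | refl => exact .refl
  | tail _ h2 ih => exact (Reach.of_comm h2.2.1 h2.1 h2.2.2.symm).trans ih

lemma Reach.mono {S D : Set G} (hS : S ⊆ D) {a b : G} (h : Reach S a b) : Reach D a b := by
  induction h with
  | refl => exact .refl
  | tail _ h2 ih => exact ih.trans (.of_comm (hS h2.1) (hS h2.2.1) h2.2.2)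

/-- Some two non-commuting members have a common neighbour. -/
def Thick (D : Set G) : Prop :=
  ∃ u ∈ D, ∃ v ∈ D, ∃ w ∈ D, Commute w u ∧ Commute w v ∧ ¬ Commute u v

/-- The commuting graph is connected. -/
def Conn (D : Set G) : Prop := ∀ a ∈ D, ∀ b ∈ D, Reach D a b

/-- Every path of length three whose ends do not commute is short-circuited by a member commuting
with the first, third and fourth point. -/
def Cfg (D : Set G) : Prop :=
  ∀ d ∈ D, ∀ a ∈ D, ∀ b ∈ D, ∀ x ∈ D, Commute d a → Commute a b → Commute b x →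
    ¬ Commute d b → ¬ Commute a x → ¬ Commute d x →
    ∃ e ∈ D, Commute e d ∧ Commute e b ∧ Commute e x

/-- A product of odd order: a power of its square. -/
lemma commute_of_sq_odd {c r : G} (ho : Odd (orderOf r)) (h : Commute c (r * r)) : Commute c r := by
  obtain ⟨i, hi⟩ := ho
  have h1 : (r * r) ^ (i + 1) = r := by
    rw [← sq, ← pow_mul, show 2 * (i + 1) = 2 * i + 1 + 1 by ring, pow_succ, ← hi,
      pow_orderOf_eq_one, one_mul]
  rw [← h1]
  exact h.pow_right _

lemma conj_mul (σ a b : G) : σ * (a * b) * σ⁻¹ = σ * a * σ⁻¹ * (σ * b * σ⁻¹) := by group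

lemma conj_pow' (σ a : G) (n : ℕ) : σ * a ^ n * σ⁻¹ = (σ * a * σ⁻¹) ^ n := (conj_pow).symm

lemma commute_conj_iff (σ : G) {a b : G} :
    Commute (σ * a * σ⁻¹) (σ * b * σ⁻¹) ↔ Commute a b := Commute.conj_iff σ

namespace Base

variable {D : Set G} (hD : Base D)
include hD

lemma inv_self {a : G} (ha : a ∈ D) : a⁻¹ = a := inv_eq_of_mul_eq_one_right (hD.inv a ha)

lemma self_cancel {a : G} (ha : a ∈ D) (x : G) : a * (a * x) = x := by
  rw [← mul_assoc, hD.inv a ha, one_mul]

lemma cancel_self {a : G} (ha : a ∈ D) (x : G) : x * a * a = x := by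
  rw [mul_assoc, hD.inv a ha, mul_one]

lemma conj_eq {a : G} (ha : a ∈ D) (x : G) : a * x * a⁻¹ = a * x * a := by rw [hD.inv_self ha]

lemma odd_of_not {a b : G} (ha : a ∈ D) (hb : b ∈ D) (h : ¬ Commute a b) : Odd (orderOf (a * b)) :=
  (hD.pair a ha b hb).resolve_left h

/-- Members commuting with a product of two commuting different members. -/
lemma comm_pair_left {y u v : G} (hy : y ∈ D) (hu : u ∈ D) (hv : v ∈ D) (huv : Commute u v)
    (hne : u ≠ v) (h : Commute y (u * v)) : Commute y u := by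
  by_contra hyu
  have hyv : ¬ Commute y v := by
    intro hyv
    apply hyu
    have := h.mul_right hyv
    rwa [hD.cancel_self hv] at this
  obtain ⟨N, hN⟩ := hD.odd_of_not hy hv hyv
  obtain ⟨M, hM⟩ := hD.odd_of_not hy hu hyu
  have hq2 : (u * v) ^ 2 = 1 := by
    rw [sq, huv.symm.mul_mul_mul_comm, hD.inv u hu, hD.inv v hv, one_mul]
  have hc : Commute (y * u) (u * v) :=
    h.mul_left ((Commute.refl u).mul_right huv)
  have heq : y * v = y * u * (u * v) := by rw [mul_assoc, hD.self_cancel hu]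
  have h1 : (y * v) ^ (orderOf (y * v) * orderOf (y * u)) = 1 := by
    rw [pow_mul, pow_orderOf_eq_one, one_pow]
  rw [heq, hc.mul_pow, ← heq] at h1
  rw [show (y * u) ^ (orderOf (y * v) * orderOf (y * u)) = 1 by
      rw [mul_comm, pow_mul, pow_orderOf_eq_one, one_pow], one_mul, hN, hM,
    show (2 * N + 1) * (2 * M + 1) = 2 * (2 * N * M + N + M) + 1 by ring, pow_succ, pow_mul, hq2,
    one_pow, one_mul] at h1
  apply hne
  calc u = u * v * v := (hD.cancel_self hv u).symm
    _ = v := by rw [h1, one_mul]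

lemma comm_pair {y u v : G} (hy : y ∈ D) (hu : u ∈ D) (hv : v ∈ D) (huv : Commute u v)
    (hne : u ≠ v) (h : Commute y (u * v)) : Commute y u ∧ Commute y v :=
  ⟨hD.comm_pair_left hy hu hv huv hne h,
    hD.comm_pair_left hy hv hu huv.symm hne.symm (huv.eq ▸ h)⟩

/-- A member commuting with a product of three commuting members and one of them. -/
lemma comm_triple {y f u v : G} (hy : y ∈ D) (hf : f ∈ D) (hu : u ∈ D) (hv : v ∈ D)
    (hfu : Commute f u) (hfv : Commute f v) (huv : Commute u v) (hne : f ≠ v)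
    (h : Commute y (f * u * v)) (hyu : Commute y u) : Commute y f ∧ Commute y v := by
  refine hD.comm_pair hy hf hv hfv hne ?_
  have h' := hyu.mul_right h
  rwa [show u * (f * u * v) = f * v by
    rw [hfu.eq, mul_assoc u f v, hD.self_cancel hu]] at h'

/-- Members of a trio commute with the same members. -/
lemma eqv_trio {u v : G} (hu : u ∈ D) (hv : v ∈ D) (huv : Commute u v) (hm : u * v ∈ D) :
    Eqv D u v := by
  have key : ∀ p ∈ D, ∀ q ∈ D, Commute p q → p * q ∈ D → ∀ y ∈ D, Commute y p → Commute y q := by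
    intro p hp q hq hpq hpqD y hy hyp
    have e : q * (p * q) = p := by rw [hpq.eq, hD.self_cancel hq]
    refine (hD.comm_pair hy hq hpqD ?_ ?_ (e.symm ▸ hyp)).1
    · exact hpq.symm.mul_right (Commute.refl q)
    · intro e'
      exact hD.ne p hp (mul_eq_right.mp e'.symm)
  exact fun y hy => ⟨key u hu v hv huv hm y hy, key v hv u hu huv.symm (huv.eq ▸ hm) y hy⟩

/-- If a member commutes with `y` and with the conjugate of `y` by `g`, it commutes with `g`. -/
lemma target {y g c : G} (hy : y ∈ D) (hg : g ∈ D) (h : ¬ Commute y g) (h1 : Commute c y)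
    (h2 : Commute c (g * y * g)) : Commute c g := by
  have h3 : Commute c (y * g * (y * g)) := by
    have := h1.mul_right h2
    rwa [show y * (g * y * g) = y * g * (y * g) by group] at this
  have h4 := h1.mul_right (commute_of_sq_odd (hD.odd_of_not hy hg h) h3)
  rwa [hD.self_cancel hy] at h4

lemma not_commute_conj {y g : G} (hy : y ∈ D) (hg : g ∈ D) (h : ¬ Commute y g) :
    ¬ Commute y (g * y * g) := fun h2 => h (hD.target hy hg h (Commute.refl y) h2)

lemma conj_closure {σ : G} (hσ : σ ∈ Subgroup.closure D) :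
    ∀ a, a ∈ D ↔ σ * a * σ⁻¹ ∈ D := by
  induction hσ using Subgroup.closure_induction with
  | mem g hg =>
    intro a
    rw [hD.conj_eq hg]
    refine ⟨hD.conj g hg a, fun h => ?_⟩
    have := hD.conj g hg _ h
    rwa [show g * (g * a * g) * g = a by
      rw [mul_assoc g a g, hD.self_cancel hg, hD.cancel_self hg]] at this
  | one => simp
  | mul p q _ _ hp hq =>
    intro a
    rw [hq a, hp]
    simp [mul_assoc]
  | inv p _ hp =>
    intro a
    rw [hp (p⁻¹ * a * p⁻¹⁻¹)]
    simp [mul_assoc]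

lemma conj_mem {σ a : G} (hσ : σ ∈ Subgroup.closure D) (ha : a ∈ D) : σ * a * σ⁻¹ ∈ D :=
  (hD.conj_closure hσ a).mp ha

lemma eqv_conj {σ a b : G} (hσ : σ ∈ Subgroup.closure D) (h : Eqv D a b) :
    Eqv D (σ * a * σ⁻¹) (σ * b * σ⁻¹) := by
  intro v hv
  have h' := h (σ⁻¹ * v * σ⁻¹⁻¹) (hD.conj_mem (inv_mem hσ) hv)
  rw [← commute_conj_iff σ, ← commute_conj_iff σ (b := b)] at h'
  simpa [mul_assoc] using h'

lemma reach_conj {σ a b : G} (hσ : σ ∈ Subgroup.closure D) (h : Reach D a b) :
    Reach D (σ * a * σ⁻¹) (σ * b * σ⁻¹) := by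
  induction h with
  | refl => exact .refl
  | tail _ h2 ih =>
    exact ih.trans (.of_comm (hD.conj_mem hσ h2.1) (hD.conj_mem hσ h2.2.1)
      ((commute_conj_iff σ).mpr h2.2.2))

lemma reach_mem {a b : G} (ha : a ∈ D) (h : Reach D a b) : b ∈ D := by
  induction h with
  | refl => exact ha
  | tail _ h2 _ => exact h2.2.1

end Base

/-- The member of a dihedral group exchanging `a` and `b`. -/
noncomputable def mid (a b : G) : G := (a * b) ^ (orderOf (a * b) / 2) * a

namespace Base

variable {D : Set G} (hD : Base D)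
include hD

lemma flip_pow {a r : G} (ha : a ∈ D) (h : a * r * a = r⁻¹) (k : ℕ) :
    a * r ^ k = (r ^ k)⁻¹ * a := by
  have h1 : a * r ^ k * a = (r ^ k)⁻¹ := by
    have := conj_pow' a r k
    rwa [hD.conj_eq ha, hD.conj_eq ha, h, inv_pow] at this
  rw [← h1, hD.cancel_self ha]

/-- Basic facts about the midpoint. -/
lemma mid_spec {a b : G} (ha : a ∈ D) (hb : b ∈ D) (h : ¬ Commute a b) :
    mid a b ∈ D ∧ mid a b * a * mid a b = b ∧ mid a b * b * mid a b = a ∧
      (∀ c, Commute c a → Commute c b → Commute c (mid a b)) ∧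
      (∀ σ : G, σ * a * σ⁻¹ = b → σ * b * σ⁻¹ = a → σ * mid a b * σ⁻¹ = mid a b) ∧
      ∃ l : ℕ, mid a b = (a * b) ^ l * a * ((a * b) ^ l)⁻¹ := by
  obtain ⟨i, hi⟩ := hD.odd_of_not ha hb h
  have hm0 : mid a b = (a * b) ^ i * a := by
    rw [mid, hi, show (2 * i + 1) / 2 = i by omega]
  set r := a * b with hr
  have hinv : r⁻¹ = b * a := by rw [hr, mul_inv_rev, hD.inv_self ha, hD.inv_self hb]
  have hflip : a * r * a = r⁻¹ := by rw [hinv, hr, hD.self_cancel ha]
  have hn : r ^ (2 * i + 1) = 1 := by rw [← hi]; exact pow_orderOf_eq_one r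
  have h2i : r ^ (2 * i) = b * a := by
    rw [← hinv]
    exact eq_inv_of_mul_eq_one_left (by rw [← pow_succ]; exact hn)
  have hl : mid a b = r ^ (i * (i + 1)) * a * (r ^ (i * (i + 1)))⁻¹ := by
    rw [hm0]
    have e : r ^ (i * (i + 1)) * a * (r ^ (i * (i + 1)))⁻¹ = r ^ (2 * (i * (i + 1))) * a := by
      rw [mul_assoc, show a * (r ^ (i * (i + 1)))⁻¹ = r ^ (i * (i + 1)) * a from ?_, ← mul_assoc,
        ← pow_add, two_mul]
      rw [eq_comm, eq_mul_inv_iff_mul_eq, mul_assoc, hD.flip_pow ha hflip, ← mul_assoc,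
        mul_inv_cancel, one_mul]
    rw [e, show 2 * (i * (i + 1)) = (2 * i + 1) * i + i by ring, pow_add, pow_mul, hn, one_pow,
      one_mul]
  have hmem : mid a b ∈ D := by
    rw [hl]
    exact hD.conj_mem (pow_mem (mul_mem (Subgroup.subset_closure ha) (Subgroup.subset_closure hb)) _) ha
  have h1 : mid a b * a * mid a b = b := by
    rw [hm0, hD.cancel_self ha, ← mul_assoc, ← pow_add, ← two_mul, h2i, hD.cancel_self ha]
  refine ⟨hmem, h1, ?_, ?_, ?_, _, hl⟩
  · calc mid a b * b * mid a b = mid a b * (mid a b * a * mid a b) * mid a b := by rw [h1]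
      _ = a := by rw [← mul_assoc, ← mul_assoc, hD.inv _ hmem, one_mul, hD.cancel_self hmem]
  · intro c hca hcb
    rw [hm0]
    exact ((hca.mul_right hcb).pow_right i).mul_right hca
  · intro σ hσa hσb
    rw [hm0, conj_mul, conj_pow', conj_mul σ a b, hσa, hσb, hr]
    have hb' : (b * a) ^ i = r ^ (i + 1) := by
      rw [← hinv, inv_pow]
      exact inv_eq_of_mul_eq_one_right (by rw [← pow_add, ← add_assoc, ← two_mul]; exact hn)
    rw [hb', pow_succ, hr, mul_assoc, hD.cancel_self hb]

/-- The third member for a non-commuting situation `y`, `u * v`. -/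
lemma exists_third {y u v : G} (hy : y ∈ D) (hu : u ∈ D) (hv : v ∈ D) (huv : Commute u v)
    (hne : u ≠ v) (hgood : ¬ Commute y (u * v * y * (u * v))) :
    ∃ f ∈ D, Commute f u ∧ Commute f v ∧ ¬ Commute y f ∧ Commute y (f * u * v) ∧
      f * y * f = u * v * y * (u * v) ∧
      ∀ c, Commute c y → Commute c (u * v) → Commute c f := by
  set q := u * v with hq
  have hq2 : q * q = 1 := by
    rw [hq, huv.symm.mul_mul_mul_comm, hD.inv u hu, hD.inv v hv, one_mul]
  have hqi : q⁻¹ = q := inv_eq_of_mul_eq_one_right hq2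
  have hqc : q ∈ Subgroup.closure D :=
    mul_mem (Subgroup.subset_closure hu) (Subgroup.subset_closure hv)
  have hyq : ¬ Commute y q := by
    intro hyq
    apply hgood
    rw [← hyq.eq, mul_assoc, hq2, mul_one]
  have hy'D : q * y * q ∈ D := by
    have := hD.conj_mem hqc hy
    rwa [hqi] at this
  obtain ⟨i, hi⟩ := hD.odd_of_not hy hy'D hgood
  set r := y * q with hr
  have hs : r * r = y * (q * y * q) := by rw [hr]; group
  have hinv : r⁻¹ = q * y := by rw [hr, mul_inv_rev, hqi, hD.inv_self hy]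
  have hflip : y * r * y = r⁻¹ := by rw [hinv, hr, hD.self_cancel hy]
  have hn : r ^ (2 * (2 * i + 1)) = 1 := by
    rw [pow_mul, sq, hs, ← hi, pow_orderOf_eq_one]
  set n := 2 * i + 1 with hnn
  have hrn : (r ^ n)⁻¹ = r ^ n := by
    apply inv_eq_of_mul_eq_one_right
    rw [← pow_add, ← two_mul, hn]
  set f := r ^ i * y * (r ^ i)⁻¹ with hf
  have hf1 : f = r ^ (2 * i) * y := by
    rw [hf, mul_assoc, show y * (r ^ i)⁻¹ = r ^ i * y from ?_, ← mul_assoc, ← pow_add, two_mul]
    rw [eq_comm, eq_mul_inv_iff_mul_eq, mul_assoc, hD.flip_pow hy hflip, ← mul_assoc,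
      mul_inv_cancel, one_mul]
  have hf2 : f * q = r ^ n := by
    rw [hf1, mul_assoc, ← hr, ← pow_succ]
  have hfD : f ∈ D := hD.conj_mem (pow_mem (mul_mem (Subgroup.subset_closure hy) hqc) _) hy
  have hyj : Commute y (r ^ n) := by
    unfold Commute SemiconjBy
    rw [hD.flip_pow hy hflip, hrn]
  have hqj : Commute q (r ^ n) := by
    have := hyj.mul_left ((Commute.refl r).pow_right n)
    rwa [hr, hD.self_cancel hy] at this
  have hfq : Commute f q := by
    have : f = r ^ n * q := by rw [← hf2, mul_assoc, hq2, mul_one]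
    rw [this]
    exact (hqj.symm.mul_left (Commute.refl q))
  obtain ⟨hfu, hfv⟩ := hD.comm_pair hfD hu hv huv hne hfq
  have hyj' : Commute y (f * q) := hf2.symm ▸ hyj
  have hyf : ¬ Commute y f := by
    intro hyf
    apply hyq
    have := hyf.mul_right hyj'
    rwa [hD.self_cancel hfD] at this
  refine ⟨f, hfD, hfu, hfv, hyf, by rw [mul_assoc, ← hq]; exact hyj', ?_, ?_⟩
  · have h1 : f * q * y = y * (f * q) := hyj'.eq.symm
    calc f * y * f = f * (y * (f * q)) * q := by simp [mul_assoc, hq2]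
      _ = f * (f * q * y) * q := by rw [h1]
      _ = q * y * q := by rw [mul_assoc f q y, hD.self_cancel hfD]
  · intro c hcy hcq
    have hcr : Commute c r := hcy.mul_right hcq
    exact ((hcr.pow_right i).mul_right hcy).mul_right (hcr.pow_right i).inv_right

/-- At most one of `b`, `b₂` (with `b * b₂` in `D`) is bad for `d` and `x`. -/
lemma not_both_bad {d b b₂ x : G} (hd : d ∈ D) (hb : b ∈ D) (hb₂ : b₂ ∈ D) (hx : x ∈ D)
    (hbb : Commute b b₂) (hm : b * b₂ ∈ D) (hxb : Commute x b) (hxb₂ : Commute x b₂)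
    (hdb : ¬ Commute d b) (h1 : Commute d (b * x * d * (b * x)))
    (h2 : Commute d (b₂ * x * d * (b₂ * x))) : False := by
  set g := b * b₂ with hg
  have hgb : Commute g b := (Commute.refl b).mul_left hbb.symm
  have hdg : ¬ Commute d g := by
    intro h
    exact hdb ((hD.eqv_trio hm hb hgb (by
      rw [hgb.eq, hg, hD.self_cancel hb]; exact hb₂) d hd).mp h)
  have conv : ∀ c, c ∈ D → Commute x c → Commute d (c * x * d * (c * x)) →
      Commute (x * d * x) (c * d * c) := by
    intro c _ hxc h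
    have h' := (commute_conj_iff x).mpr h
    rw [hD.conj_eq hx, hD.conj_eq hx] at h'
    rwa [show x * (c * x * d * (c * x)) * x = c * d * c by
      have e1 : x * (c * x) = c := by rw [← hxc.eq, hD.self_cancel hx]
      calc x * (c * x * d * (c * x)) * x = x * (c * x) * d * (c * x * x) := by group
        _ = c * d * c := by rw [e1, hD.cancel_self hx]] at h'
  have z1 := conv b hb hxb h1
  have z2 := conv b₂ hb₂ hxb₂ h2
  have hy : b * d * b ∈ D := hD.conj b hb d hd
  have hny : ¬ Commute (b * d * b) g := by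
    intro h
    apply hdg
    have h' := (commute_conj_iff b).mpr h
    rw [hD.conj_eq hb, hD.conj_eq hb, mul_assoc b d b, hD.self_cancel hb, hD.cancel_self hb,
      ← hgb.eq, hD.cancel_self hb] at h'
    exact h'
  have hconj : g * (b * d * b) * g = b₂ * d * b₂ := by
    have e1 : g * b = b₂ := by rw [hgb.eq, hg, hD.self_cancel hb]
    have e2 : b * g = b₂ := by rw [← hgb.eq, e1]
    calc g * (b * d * b) * g = g * b * d * (b * g) := by group
      _ = b₂ * d * b₂ := by rw [e1, e2]
  have hzg : Commute (x * d * x) g := hD.target hy hm hny z1 (hconj.symm ▸ z2)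
  apply hdg
  have h' := (commute_conj_iff x).mpr hzg
  have hxg : Commute x g := hxb.mul_right hxb₂
  rwa [hD.conj_eq hx, hD.conj_eq hx, mul_assoc x d x, hD.self_cancel hx, hD.cancel_self hx,
    hxg.eq, hD.cancel_self hx] at h'

/-- A good variant of `u`. -/
lemma exists_good {y u w : G} (hy : y ∈ D) (hu : u ∈ D) (hw : w ∈ D) (huw : Commute u w)
    (hyu : ¬ Commute y u) :
    ∃ v ∈ D, Eqv D u v ∧ ¬ Commute y (v * w * y * (v * w)) := by
  obtain ⟨u', hu', -, huu', hm⟩ := hD.trio u hu
  by_cases h : Commute y (u * w * y * (u * w))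
  · have he : Eqv D u u' := hD.eqv_trio hu hu' huu'.symm hm
    exact ⟨u', hu', he, fun h2 => hD.not_both_bad hy hu hu' hw huu'.symm hm huw.symm
      ((he w hw).mp huw.symm) hyu h h2⟩
  · exact ⟨u, hu, Eqv.refl u, h⟩

/-- A member of the trio kind other than `u` keeps all commutations. -/
lemma exists_partner {u : G} (hu : u ∈ D) :
    ∃ u' ∈ D, u' ≠ u ∧ Commute u u' ∧ u * u' ∈ D ∧ Eqv D u u' := by
  obtain ⟨u', hu', hne, hc, hm⟩ := hD.trio u hu
  exact ⟨u', hu', hne, hc.symm, hm, hD.eqv_trio hu hu' hc.symm hm⟩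

end Base

/-- The members of `S` that are not central in `S`. -/
def NC (S : Set G) : Set G := {y | y ∈ S ∧ ∃ v ∈ S, ¬ Commute v y}

lemma NC_subset (S : Set G) : NC S ⊆ S := fun _ h => h.1

/-- A conjugation-invariant subset with trios gives again the standing hypothesis. -/
lemma Base.nonCentral {D S : Set G} (hD : Base D) (hS : S ⊆ D)
    (hconj : ∀ a ∈ S, ∀ b ∈ S, a * b * a ∈ S)
    (htrio : ∀ y ∈ S, ∃ y' ∈ S, y' ≠ y ∧ Commute y' y ∧ y * y' ∈ S) : Base (NC S) where
  inv a ha := hD.inv a (hS ha.1)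
  ne a ha := hD.ne a (hS ha.1)
  conj := by
    rintro a ⟨ha, -⟩ b ⟨hb, v, hv, hvb⟩
    refine ⟨hconj a ha b hb, a * v * a, hconj a ha v hv, fun h => hvb ?_⟩
    rw [← commute_conj_iff a, hD.conj_eq (hS ha), hD.conj_eq (hS ha)]
    exact h
  pair a ha b hb := hD.pair a (hS ha.1) b (hS hb.1)
  trio := by
    rintro y ⟨hy, v, hv, hvy⟩
    obtain ⟨y', hy', hne, hc, hm⟩ := htrio y hy
    have he := hD.eqv_trio (hS hy) (hS hy') hc.symm (hS hm) v (hS hv)
    have he' := hD.eqv_trio (hS hy) (hS hm) ((Commute.refl y).mul_right hc.symm) (by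
      rw [hD.self_cancel (hS hy)]; exact hS hy') v (hS hv)
    exact ⟨y', ⟨hy', v, hv, fun h => hvy (he.mpr h)⟩, hne, hc,
      ⟨hm, v, hv, fun h => hvy (he'.mpr h)⟩⟩
  nc := by
    rintro y ⟨hy, v, hv, hvy⟩
    exact ⟨v, ⟨hv, y, hy, fun h => hvy h.symm⟩, hvy⟩

/-- The neighbourhood of a member without its centre. -/
def nbhd (D : Set G) (b : G) : Set G := NC {y | y ∈ D ∧ Commute y b}

/-- The centralizing members of an element without their centre. -/
def centMembers (D : Set G) (r : G) : Set G := NC {y | y ∈ D ∧ Commute y r}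

namespace Base

variable {D : Set G} (hD : Base D)
include hD

lemma nbhd_base {b : G} (hb : b ∈ D) : Base (nbhd D b) := by
  refine hD.nonCentral (fun y h => h.1) ?_ ?_
  · intro a ha c hc
    exact ⟨hD.conj a ha.1 c hc.1, (ha.2.mul_left hc.2).mul_left ha.2⟩
  · intro y hy
    obtain ⟨y', hy', hne, hc, hm, he⟩ := hD.exists_partner hy.1
    have h2 : Commute y' b := ((he b hb).mp hy.2.symm).symm
    exact ⟨y', ⟨hy', h2⟩, hne, hc.symm, hm, hy.2.mul_left h2⟩

lemma nbhd_mem {b y v : G} (hy : y ∈ D) (hv : v ∈ D) (h1 : Commute y b) (h2 : Commute v b)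
    (h : ¬ Commute v y) : y ∈ nbhd D b := ⟨⟨hy, h1⟩, v, ⟨hv, h2⟩, h⟩

lemma centMembers_base {f u v : G} (hf : f ∈ D) (hu : u ∈ D) (hv : v ∈ D) (hfu : Commute f u)
    (hfv : Commute f v) (huv : Commute u v) (hne : f ≠ v) :
    Base (centMembers D (f * u * v)) := by
  have hur : Commute u (f * u * v) := (hfu.symm.mul_right (Commute.refl u)).mul_right huv
  have partner : ∀ y ∈ D, Commute y (f * u * v) → Commute y u →
      ∃ y' ∈ D, y' ≠ y ∧ Commute y y' ∧ y * y' ∈ D ∧ Commute y' (f * u * v) := by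
    intro y hy hyr hyu
    obtain ⟨hyf, hyv⟩ := hD.comm_triple hy hf hu hv hfu hfv huv hne hyr hyu
    obtain ⟨y', hy', hne', hc, hm, he⟩ := hD.exists_partner hy
    exact ⟨y', hy', hne', hc, hm,
      ((((he f hf).mp hyf.symm).symm.mul_right ((he u hu).mp hyu.symm).symm).mul_right
        ((he v hv).mp hyv.symm).symm)⟩
  refine hD.nonCentral (fun y h => h.1) ?_ ?_
  · intro a ha c hc
    exact ⟨hD.conj a ha.1 c hc.1, (ha.2.mul_left hc.2).mul_left ha.2⟩
  · intro y hy
    by_cases hyu : Commute y u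
    · obtain ⟨y', hy', hne', hc, hm, hr⟩ := partner y hy.1 hy.2 hyu
      exact ⟨y', ⟨hy', hr⟩, hne', hc.symm, hm, hy.2.mul_left hr⟩
    obtain ⟨hmD, hmu, -, hmc, -⟩ := hD.mid_spec hu hy.1 fun h => hyu h.symm
    set m := mid u y with hmdef
    have hmr : Commute m (f * u * v) := (hmc _ hur.symm hy.2.symm).symm
    obtain ⟨u', hu', hne', hc, hm, hr⟩ := partner u hu hur (Commute.refl u)
    refine ⟨m * u' * m, ⟨hD.conj m hmD u' hu', (hmr.mul_left hr).mul_left hmr⟩, ?_, ?_,
      ?_, hy.2.mul_left ((hmr.mul_left hr).mul_left hmr)⟩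
    · rw [← hmu]
      exact fun e => hne' (mul_left_cancel (mul_right_cancel e))
    · rw [← hmu, ← hD.conj_eq hmD, ← hD.conj_eq hmD, commute_conj_iff]
      exact hc.symm
    · rw [← hmu, ← hD.conj_eq hmD, ← hD.conj_eq hmD, ← conj_mul, hD.conj_eq hmD]
      exact hD.conj m hmD _ hm

/-- A product of three commuting members, two of them not equivalent, is not centralized by all. -/
lemma exists_not_comm_triple {f u v : G} (hf : f ∈ D) (hu : u ∈ D) (hv : v ∈ D)
    (hfu : Commute f u) (hfv : Commute f v) (huv : Commute u v) (hne : f ≠ v) (hne' : f ≠ u)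
    (h : ¬ Eqv D u v) : ∃ y ∈ D, ¬ Commute y (f * u * v) := by
  by_contra hall
  push Not at hall
  apply h
  intro y hy
  refine ⟨fun hyu => (hD.comm_triple hy hf hu hv hfu hfv huv hne (hall y hy) hyu).2,
    fun hyv => (hD.comm_triple hy hf hv hu hfv hfu huv.symm hne' ?_ hyv).2⟩
  rw [mul_assoc, ← huv.eq, ← mul_assoc]
  exact hall y hy

end Base

end Cfsg.Agent.Lib.OddTransp84
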