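import Cfsg.Agent.Lib.OddTransp84.Basic

/-!
In a set of odd transpositions with trios, a commuting graph in which some member has non-commuting
neighbours is connected, provided the same and the path lemma hold for all smaller such sets.
-/

set_option autoImplicit false

namespace Cfsg.Agent.Lib.OddTransp84

variable {G : Type*} [Group G] [Finite G] {D : Set G}

/-- The induction hypothesis. -/
def Below (D : Set G) : Prop :=
  ∀ S : Set G, Base S → S.ncard < D.ncard → Cfg S ∧ (Thick S → Conn S)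

omit [Finite G] in
lemma exists_common (hC : Cfg D) {a b : G} (ha : a ∈ D) (h : Reach D a b) :
    ∃ e ∈ D, Commute e a ∧ Commute e b := by
  induction h with
  | refl => exact ⟨a, ha, .refl a, .refl a⟩
  | @tail y y' _ h2 ih =>
    obtain ⟨e, he, hea, hey⟩ := ih
    by_cases h1 : Commute e y'
    · exact ⟨e, he, hea, h1⟩
    by_cases h2' : Commute y a
    · exact ⟨y, h2.1, h2', h2.2.2⟩
    by_cases h3 : Commute a y'
    · exact ⟨a, ha, .refl a, h3⟩
    obtain ⟨e', he', hea', -, hey'⟩ :=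
      hC a ha e he y h2.1 y' h2.2.1 hea.symm hey h2.2.2 (fun h => h2' h.symm) h1 h3
    exact ⟨e', he', hea', hey'⟩

omit [Finite G] in
lemma exists_proj (hC : Cfg D) {d b x : G} (hd : d ∈ D) (hb : b ∈ D) (hx : x ∈ D)
    (hr : Reach D d b) (hbx : Commute b x) (hdb : ¬ Commute d b) (hdx : ¬ Commute d x) :
    ∃ e ∈ D, Commute e d ∧ Commute e b ∧ Commute e x := by
  obtain ⟨a, ha, had, hab⟩ := exists_common hC hd hr
  by_cases hax : Commute a x
  · exact ⟨a, ha, had, hab, hax⟩
  exact hC d hd a ha b hb x hx had.symm hab hbx hdb hax hdx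

/-- Conjugacy under the group generated by `D`. -/
def Conjg (D : Set G) (a b : G) : Prop := ∃ σ ∈ Subgroup.closure D, σ * a * σ⁻¹ = b

omit [Finite G] in
lemma Conjg.trans {a b c : G} (h : Conjg D a b) (h' : Conjg D b c) : Conjg D a c := by
  obtain ⟨σ, hσ, rfl⟩ := h
  obtain ⟨τ, hτ, rfl⟩ := h'
  exact ⟨τ * σ, mul_mem hτ hσ, by group⟩

omit [Finite G] in
lemma Conjg.symm {a b : G} (h : Conjg D a b) : Conjg D b a := by
  obtain ⟨σ, hσ, rfl⟩ := h
  exact ⟨σ⁻¹, inv_mem hσ, by group⟩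

omit [Finite G] in
lemma Base.conjg_of_not (hD : Base D) {a b : G} (ha : a ∈ D) (hb : b ∈ D) (h : ¬ Commute a b) :
    Conjg D a b := by
  obtain ⟨hm, h1, -⟩ := hD.mid_spec ha hb h
  exact ⟨mid a b, Subgroup.subset_closure hm, by rw [hD.conj_eq hm, h1]⟩

/-- Conjugate members that are not equivalent: some member commutes with the first only. -/
lemma Base.exists_comm_not (hD : Base D) {a b : G} (h : Conjg D a b) (hne : ¬ Eqv D a b) :
    ∃ y ∈ D, Commute y a ∧ ¬ Commute y b := by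
  by_contra hall
  push Not at hall
  obtain ⟨σ, hσ, rfl⟩ := h
  have hsub : {y | y ∈ D ∧ Commute y a} ⊆ {y | y ∈ D ∧ Commute y (σ * a * σ⁻¹)} :=
    fun y hy => ⟨hy.1, hall y hy.1 hy.2⟩
  have himg : {y | y ∈ D ∧ Commute y (σ * a * σ⁻¹)} =
      (fun y => σ * y * σ⁻¹) '' {y | y ∈ D ∧ Commute y a} := by
    ext y
    constructor
    · rintro ⟨hy, hc⟩
      refine ⟨σ⁻¹ * y * σ⁻¹⁻¹, ⟨hD.conj_mem (inv_mem hσ) hy, ?_⟩, by group⟩
      rw [← commute_conj_iff σ]
      simpa [mul_assoc] using hc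
    · rintro ⟨y, ⟨hy, hc⟩, rfl⟩
      exact ⟨hD.conj_mem hσ hy, (commute_conj_iff σ).mpr hc⟩
  have heq := Set.eq_of_subset_of_ncard_le hsub (by
    rw [himg]; exact Set.ncard_image_le (Set.toFinite _))
  exact hne fun v hv => ⟨fun hc => hall v hv hc, fun hc =>
    (Set.ext_iff.mp heq v).mpr ⟨hv, hc⟩ |>.2⟩

/-- The standing situation: disconnected, every member with non-commuting neighbours. -/
structure Split (D : Set G) : Prop where
  base : Base D
  below : Below D
  sep : ∀ v ∈ D, ∃ z ∈ D, ¬ Reach D z v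
  wide : ∀ v ∈ D, ∃ p ∈ D, ∃ q ∈ D, Commute p v ∧ Commute q v ∧ ¬ Commute p q
  conjg : ∀ a ∈ D, ∀ b ∈ D, Conjg D a b

omit [Finite G] in
lemma split_of_not_conn (hD : Base D) (hB : Below D) (ht : Thick D) (hn : ¬ Conn D) : Split D := by
  have hsep : ∀ v ∈ D, ∃ z ∈ D, ¬ Reach D z v := by
    intro v hv
    by_contra hall
    push Not at hall
    exact hn fun a ha b hb => (hall a ha).trans (hall b hb).symm
  have hconj : ∀ a ∈ D, ∀ b ∈ D, Conjg D a b := by
    intro a ha b hb
    by_cases h : Commute a b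
    · obtain ⟨z, hz, hza⟩ := hsep a ha
      have h1 : ¬ Commute z a := fun h' => hza (Reach.of_comm hz ha h')
      have h2 : ¬ Commute z b := fun h' =>
        hza ((Reach.of_comm hz hb h').trans (Reach.of_comm hb ha h.symm))
      exact (hD.conjg_of_not hz ha h1).symm.trans (hD.conjg_of_not hz hb h2)
    · exact hD.conjg_of_not ha hb h
  refine ⟨hD, hB, hsep, ?_, hconj⟩
  intro v hv
  obtain ⟨p, hp, q, hq, w, hw, hwp, hwq, hpq⟩ := ht
  obtain ⟨σ, hσ, rfl⟩ := hconj w hw v hv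
  exact ⟨σ * p * σ⁻¹, hD.conj_mem hσ hp, σ * q * σ⁻¹, hD.conj_mem hσ hq,
    (commute_conj_iff σ).mpr hwp.symm, (commute_conj_iff σ).mpr hwq.symm,
    fun h => hpq ((commute_conj_iff σ).mp h)⟩

/-- A triangle `f, v, w` centralized by `z` from another component. -/
structure Tri (D : Set G) (z v w f : G) : Prop where
  hz : z ∈ D
  hv : v ∈ D
  hw : w ∈ D
  hf : f ∈ D
  vw : Commute v w
  fv : Commute f v
  fw : Commute f w
  neq : ¬ Eqv D v w
  unreach : ¬ Reach D z v
  zr : Commute z (f * v * w)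
  zf : ¬ Commute z f

namespace Tri

variable {z v w f : G}

omit [Finite G] in
lemma v_ne_w (T : Tri D z v w f) : v ≠ w := fun e => T.neq (e ▸ Eqv.refl v)

omit [Finite G] in
lemma not_zv (T : Tri D z v w f) : ¬ Commute z v := fun h => T.unreach (Reach.of_comm T.hz T.hv h)

omit [Finite G] in
lemma unreach_w (T : Tri D z v w f) : ¬ Reach D z w :=
  fun h => T.unreach (h.trans (Reach.of_comm T.hw T.hv T.vw.symm))

omit [Finite G] in
lemma not_zw (T : Tri D z v w f) : ¬ Commute z w := fun h => T.unreach_w (Reach.of_comm T.hz T.hw h)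

omit [Finite G] in
lemma unreach_f (T : Tri D z v w f) : ¬ Reach D z f :=
  fun h => T.unreach (h.trans (Reach.of_comm T.hf T.hv T.fv))

omit [Finite G] in
lemma f_ne_v (hD : Base D) (T : Tri D z v w f) : f ≠ v := by
  rintro rfl
  have h := T.zr
  rw [hD.inv f T.hf, one_mul] at h
  exact T.not_zw h

omit [Finite G] in
lemma f_ne_w (hD : Base D) (T : Tri D z v w f) : f ≠ w := by
  rintro rfl
  have h := T.zr
  rw [mul_assoc, T.vw.eq, hD.self_cancel T.hf] at h
  exact T.not_zv h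

omit [Finite G] in
lemma r_mem (T : Tri D z v w f) : f * v * w ∈ Subgroup.closure D :=
  mul_mem (mul_mem (Subgroup.subset_closure T.hf) (Subgroup.subset_closure T.hv))
    (Subgroup.subset_closure T.hw)

omit [Finite G] in
lemma rv (T : Tri D z v w f) : Commute v (f * v * w) :=
  (T.fv.symm.mul_right (Commute.refl v)).mul_right T.vw

omit [Finite G] in
lemma rw' (T : Tri D z v w f) : Commute w (f * v * w) :=
  (T.fw.symm.mul_right T.vw.symm).mul_right (Commute.refl w)

omit [Finite G] in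
lemma rf (T : Tri D z v w f) : Commute f (f * v * w) :=
  ((Commute.refl f).mul_right T.fv).mul_right T.fw

omit [Finite G] in
lemma swap (T : Tri D z v w f) : Tri D z w v f where
  hz := T.hz
  hv := T.hw
  hw := T.hv
  hf := T.hf
  vw := T.vw.symm
  fv := T.fw
  fw := T.fv
  neq h := T.neq h.symm
  unreach := T.unreach_w
  zr := by rw [mul_assoc, ← T.vw.eq, ← mul_assoc]; exact T.zr
  zf := T.zf

omit [Finite G] in
lemma r_sq (hD : Base D) (T : Tri D z v w f) : f * v * w * (f * v * w) = 1 := by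
  rw [(T.fw.mul_left T.vw).symm.mul_mul_mul_comm, T.fv.symm.mul_mul_mul_comm, hD.inv f T.hf,
    hD.inv v T.hv, hD.inv w T.hw, one_mul, one_mul]

omit [Finite G] in
/-- The triangle seen from the other side. -/
lemma mirror (hD : Base D) (T : Tri D z v w f) :
    ∃ v₁ w₁ t, t = mid z f ∧ v₁ = t * v * t ∧ w₁ = t * w * t ∧ Tri D f v₁ w₁ z ∧
      z * v₁ * w₁ = f * v * w := by
  obtain ⟨ht, h1, h2, hc, -⟩ := hD.mid_spec T.hz T.hf T.zf
  set t := mid z f with htdef
  have htr : Commute t (f * v * w) := (hc _ T.zr.symm T.rf.symm).symm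
  have hprod : z * (t * v * t) * (t * w * t) = f * v * w := by
    rw [← h2, ← hD.conj_eq ht, ← hD.conj_eq ht, ← hD.conj_eq ht, ← conj_mul, ← conj_mul, htr.eq,
      mul_inv_cancel_right]
  refine ⟨_, _, t, rfl, rfl, rfl,
    ⟨T.hf, hD.conj t ht v T.hv, hD.conj t ht w T.hw, T.hz, ?_, ?_, ?_, ?_, ?_, ?_, ?_⟩, hprod⟩
  · rw [← hD.conj_eq ht, ← hD.conj_eq ht, commute_conj_iff]; exact T.vw
  · rw [← h2, ← hD.conj_eq ht, ← hD.conj_eq ht, commute_conj_iff]; exact T.fv
  · rw [← h2, ← hD.conj_eq ht, ← hD.conj_eq ht, commute_conj_iff]; exact T.fw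
  · intro h
    apply T.neq
    have := hD.eqv_conj (Subgroup.subset_closure ht) h
    rwa [hD.conj_eq ht, hD.conj_eq ht, mul_assoc t v t, mul_assoc t w t, hD.self_cancel ht,
      hD.self_cancel ht, hD.cancel_self ht, hD.cancel_self ht] at this
  · intro h
    have h' := hD.reach_conj (Subgroup.subset_closure ht) (Reach.of_comm T.hf T.hv T.fv)
    rw [hD.conj_eq ht, hD.conj_eq ht, h2] at h'
    exact T.unreach_f (h'.trans h.symm)
  · rw [hprod]; exact T.rf
  · exact fun h => T.zf h.symm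

end Tri

/-- The component of `v`. -/
def comp (D : Set G) (v : G) : Set G := {y | y ∈ D ∧ Reach D v y}

namespace Split

variable (hS : Split D)
include hS

lemma comp_base {v : G} (hv : v ∈ D) : Base (comp D v) := by
  have hD := hS.base
  refine ⟨fun a ha => hD.inv a ha.1, fun a ha => hD.ne a ha.1, ?_,
    fun a ha b hb => hD.pair a ha.1 b hb.1, ?_, ?_⟩
  · intro a ha b hb
    refine ⟨hD.conj a ha.1 b hb.1, ?_⟩
    have h := hD.reach_conj (Subgroup.subset_closure ha.1) (ha.2.symm.trans hb.2)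
    rw [hD.conj_eq ha.1, hD.conj_eq ha.1, hD.inv a ha.1, one_mul] at h
    exact ha.2.trans h
  · intro y hy
    obtain ⟨y', hy', hne, hc, hm⟩ := hD.trio y hy.1
    exact ⟨y', ⟨hy', hy.2.trans (Reach.of_comm hy.1 hy' hc.symm)⟩, hne, hc,
      ⟨hm, hy.2.trans (Reach.of_comm hy.1 hm ((Commute.refl y).mul_right hc.symm))⟩⟩
  · intro y hy
    obtain ⟨p, hp, q, hq, hpy, hqy, hpq⟩ := hS.wide y hy.1
    obtain ⟨y₁, hy₁, h1, h2⟩ := hD.exists_comm_not (hS.conjg p hp y hy.1)
      fun h => hpq ((h q hq).mpr hqy).symm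
    exact ⟨y₁, ⟨hy₁, (hy.2.trans (Reach.of_comm hy.1 hp hpy.symm)).trans (Reach.of_comm hp hy₁ h1.symm)⟩, h2⟩

lemma comp_cfg {v : G} (hv : v ∈ D) : Cfg (comp D v) := by
  refine (hS.below _ (hS.comp_base hv) (Set.ncard_lt_ncard ?_)).1
  obtain ⟨z, hz, hzv⟩ := hS.sep v hv
  exact Set.ssubset_iff_exists.mpr ⟨fun y hy => hy.1, z, hz, fun h => hzv h.2.symm⟩

lemma proj {d b x : G} (hd : d ∈ D) (hb : b ∈ D) (hx : x ∈ D) (hr : Reach D d b)
    (hbx : Commute b x) (hdb : ¬ Commute d b) (hdx : ¬ Commute d x) :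
    ∃ e ∈ D, Commute e d ∧ Commute e b ∧ Commute e x := by
  have key : ∀ y, Reach D d y → Reach (comp D d) d y := by
    intro y h
    induction h with
    | refl => exact .refl
    | tail h1 h2 ih =>
      exact Reach.trans ih (Reach.of_comm ⟨h2.1, h1⟩ ⟨h2.2.1, h1.trans (Reach.of_comm h2.1 h2.2.1 h2.2.2)⟩ h2.2.2)
  obtain ⟨e, he, h⟩ := exists_proj (hS.comp_cfg hd) ⟨hd, .refl⟩ ⟨hb, hr⟩
    ⟨hx, hr.trans (Reach.of_comm hb hx hbx)⟩ (key b hr) hbx hdb hdx
  exact ⟨e, he.1, h⟩

omit [Finite G] in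
/-- A member cannot map a foreign component to itself. -/
lemma not_stab {y z : G} (hy : y ∈ D) (hz : z ∈ D) (h : ¬ Reach D z y)
    (hr : Reach D z (y * z * y)) : False := by
  have hD := hS.base
  have hzy : ¬ Commute z y := fun h' => h (Reach.of_comm hz hy h')
  obtain ⟨i, hi⟩ := hD.odd_of_not hz hy hzy
  set r := z * y with hrdef
  have hz₁ : y * z * y ∈ D := hD.conj y hy z hz
  -- powers of `z * (y z y)` preserve the component of `z`
  have hρ : ∀ l : ℕ, Reach D z ((r * r) ^ l * z * ((r * r) ^ l)⁻¹) := by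
    intro l
    induction l with
    | zero => simp only [pow_zero, one_mul, inv_one, mul_one]; exact .refl
    | succ l ih =>
      have e : r * r = z * (y * z * y) := by rw [hrdef]; group
      have h1 := hD.reach_conj (σ := r * r) (by
        rw [e]; exact mul_mem (Subgroup.subset_closure hz) (Subgroup.subset_closure hz₁)) ih
      have h2 : Reach D z (r * r * z * (r * r)⁻¹) := by
        have h3 := hD.reach_conj (Subgroup.subset_closure hz) (hD.reach_conj
          (Subgroup.subset_closure hz₁) hr)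
        rw [hD.conj_eq hz₁, hD.conj_eq hz₁, hD.inv _ hz₁, one_mul, hD.conj_eq hz, hD.conj_eq hz]
          at h3
        have h4 := hD.reach_conj (Subgroup.subset_closure hz) hr
        rw [hD.conj_eq hz, hD.conj_eq hz, hD.inv _ hz, one_mul] at h4
        refine (h4.trans h3.symm).trans (Relation.ReflTransGen.refl.trans ?_)
        rw [e, mul_inv_rev, hD.inv_self hz, hD.inv_self hz₁]
        simp only [← mul_assoc]
        exact .refl
      refine h2.trans ?_
      rw [show (r * r) ^ (l + 1) * z * ((r * r) ^ (l + 1))⁻¹ =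
          r * r * ((r * r) ^ l * z * ((r * r) ^ l)⁻¹) * (r * r)⁻¹ by rw [pow_succ', mul_inv_rev]; simp only [mul_assoc]]
      exact h1
  have hflip : z * r * z = r⁻¹ := by
    rw [hrdef, hD.self_cancel hz, mul_inv_rev, hD.inv_self hy, hD.inv_self hz]
  have hyz : (r * r) ^ (i * (i + 1)) * z * ((r * r) ^ (i * (i + 1)))⁻¹ = y := by
    rw [← sq, ← pow_mul, mul_assoc, show z * (r ^ (2 * (i * (i + 1))))⁻¹ =
      r ^ (2 * (i * (i + 1))) * z from ?_, ← mul_assoc, ← pow_add]
    · have h1 : r ^ (2 * (i * (i + 1)) + 2 * (i * (i + 1))) * r = 1 := by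
        rw [← pow_succ, show 2 * (i * (i + 1)) + 2 * (i * (i + 1)) + 1 = (2 * i + 1) * (2 * i + 1) by
          ring, ← hi, pow_mul, pow_orderOf_eq_one, one_pow]
      rw [eq_inv_of_mul_eq_one_left h1, hrdef, mul_inv_rev, hD.inv_self hy, hD.inv_self hz,
        hD.cancel_self hz]
    · rw [eq_comm, eq_mul_inv_iff_mul_eq, mul_assoc, hD.flip_pow hz hflip, ← mul_assoc,
        mul_inv_cancel, one_mul]
  exact h (hyz ▸ hρ _)

/-- The members centralizing a triangle commute with each other. -/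
lemma clique {z v w f p q : G} (T : Tri D z v w f) (hp : p ∈ D) (hq : q ∈ D)
    (hpv : Commute p v) (hpw : Commute p w) (hpf : Commute p f) (hqv : Commute q v)
    (hqw : Commute q w) (hqf : Commute q f) : Commute p q := by
  have hD := hS.base
  by_contra hpq
  set K := centMembers D (f * v * w)
  have hKD : K ⊆ D := fun y hy => hy.1.1
  have hK : Base K := hD.centMembers_base T.hf T.hv T.hw T.fv T.fw T.vw (T.f_ne_w hD)
  have hpr : Commute p (f * v * w) := (hpf.mul_right hpv).mul_right hpw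
  have hqr : Commute q (f * v * w) := (hqf.mul_right hqv).mul_right hqw
  have mp : p ∈ K := ⟨⟨hp, hpr⟩, q, ⟨hq, hqr⟩, fun h => hpq h.symm⟩
  have mq : q ∈ K := ⟨⟨hq, hqr⟩, p, ⟨hp, hpr⟩, hpq⟩
  have mv : v ∈ K := ⟨⟨T.hv, T.rv⟩, z, ⟨T.hz, T.zr⟩, T.not_zv⟩
  have mz : z ∈ K := ⟨⟨T.hz, T.zr⟩, v, ⟨T.hv, T.rv⟩, fun h => T.not_zv h.symm⟩
  obtain ⟨y, hy, hyr⟩ := hD.exists_not_comm_triple T.hf T.hv T.hw T.fv T.fw T.vw (T.f_ne_w hD)
    (T.f_ne_v hD) T.neq
  have hlt : K.ncard < D.ncard :=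
    Set.ncard_lt_ncard (Set.ssubset_iff_exists.mpr ⟨hKD, y, hy, fun h => hyr h.1.2⟩)
  have hc := (hS.below K hK hlt).2 ⟨p, mp, q, mq, v, mv, hpv.symm, hqv.symm, hpq⟩
  exact T.unreach ((hc z mz v mv).mono hKD)

lemma comm_of_cent {z v w f y : G} (T : Tri D z v w f) (hy : y ∈ D) (hr : Reach D v y)
    (hyr : Commute y (f * v * w)) : Commute y v ∧ Commute y w ∧ Commute y f := by
  have hD := hS.base
  suffices h : Commute y v by
    obtain ⟨h1, h2⟩ := hD.comm_triple hy T.hf T.hv T.hw T.fv T.fw T.vw (T.f_ne_w hD) hyr h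
    exact ⟨h, h2, h1⟩
  by_contra hyv
  have hyw : ¬ Commute y w := fun h => hyv
    (hD.comm_triple hy T.hf T.hw T.hv T.fw T.fv T.vw.symm (T.f_ne_v hD)
      (by rw [mul_assoc, ← T.vw.eq, ← mul_assoc]; exact hyr) h).2
  obtain ⟨p, hp, hpy, hpv, hpw⟩ := hS.proj hy T.hv T.hw hr.symm T.vw hyv hyw
  by_cases hpf : Commute p f
  · have hKD : centMembers D (f * v * w) ⊆ D := fun a ha => ha.1.1
    have hpr : Commute p (f * v * w) := (hpf.mul_right hpv).mul_right hpw
    have hnz : ∀ a ∈ D, Reach D v a → ¬ Commute z a := fun a ha h1 h2 =>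
      T.unreach ((Reach.of_comm T.hz ha h2).trans h1.symm)
    have mem : ∀ a ∈ D, Reach D v a → Commute a (f * v * w) → a ∈ centMembers D (f * v * w) :=
      fun a ha h1 h2 => ⟨⟨ha, h2⟩, z, ⟨T.hz, T.zr⟩, hnz a ha h1⟩
    obtain ⟨x, hx, hxr⟩ := hD.exists_not_comm_triple T.hf T.hv T.hw T.fv T.fw T.vw (T.f_ne_w hD)
      (T.f_ne_v hD) T.neq
    have hc := (hS.below _ (hD.centMembers_base T.hf T.hv T.hw T.fv T.fw T.vw (T.f_ne_w hD))
      (Set.ncard_lt_ncard (Set.ssubset_iff_exists.mpr ⟨hKD, x, hx, fun h => hxr h.1.2⟩))).2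
      ⟨y, mem y hy hr hyr, v, mem v T.hv .refl T.rv, p,
        mem p hp (Reach.of_comm T.hv hp hpv.symm) hpr, hpy, hpv, hyv⟩
    have mz : z ∈ centMembers D (f * v * w) :=
      ⟨⟨T.hz, T.zr⟩, v, ⟨T.hv, T.rv⟩, fun h => T.not_zv h.symm⟩
    exact T.unreach ((hc z mz v (mem v T.hv .refl T.rv)).mono hKD)
  · have hr2 := T.r_sq hD
    have hri : (f * v * w)⁻¹ = f * v * w := inv_eq_of_mul_eq_one_right hr2
    have e : f * v * w * p * (f * v * w) = f * p * f := by
      calc f * v * w * p * (f * v * w) = f * (v * w * p) * (f * (v * w)) := by group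
        _ = f * (p * (v * w)) * (v * w * f) := by
          rw [(hpv.mul_right hpw).eq, (T.fv.mul_right T.fw).eq]
        _ = f * p * (v * w * (v * w)) * f := by group
        _ = f * p * f := by
          rw [T.vw.symm.mul_mul_mul_comm, hD.inv v T.hv, hD.inv w T.hw, one_mul, mul_one]
    have h2 : Commute y (f * p * f) := by
      have h := (commute_conj_iff (f * v * w)).mpr hpy.symm
      rwa [hri, e, ← hyr.eq, mul_assoc, hr2, mul_one] at h
    have hyf := hD.target hp T.hf hpf hpy.symm h2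
    exact hyv (hD.comm_triple hy T.hv T.hf T.hw T.fv.symm T.vw T.fw T.v_ne_w
      (by rw [← T.fv.eq]; exact hyr) hyf).1

/-- Two members of the component of `z` centralizing the triangle commute. -/
lemma foreign_clique {z v w f y₁ y₂ : G} (T : Tri D z v w f) (h₁ : Reach D z y₁)
    (h₂ : Reach D z y₂) (c₁ : Commute y₁ (f * v * w)) (c₂ : Commute y₂ (f * v * w)) :
    Commute y₁ y₂ := by
  have hD := hS.base
  obtain ⟨ht, hzf, -, hc, -⟩ := hD.mid_spec T.hz T.hf T.zf
  set t := mid z f with htdef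
  have htr : Commute t (f * v * w) := (hc _ T.zr.symm T.rf.symm).symm
  have key : ∀ y, Reach D z y → Commute y (f * v * w) →
      t * y * t ∈ D ∧ Commute (t * y * t) v ∧ Commute (t * y * t) w ∧ Commute (t * y * t) f := by
    intro y hy hyr
    have hyD := hD.reach_mem T.hz hy
    have h := hD.reach_conj (Subgroup.subset_closure ht) hy
    rw [hD.conj_eq ht, hD.conj_eq ht, hzf] at h
    have hm := hD.conj t ht y hyD
    refine ⟨hm, hS.comm_of_cent T hm ((Reach.of_comm T.hv T.hf T.fv.symm).trans h) ?_⟩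
    exact (htr.mul_left hyr).mul_left htr
  obtain ⟨m1, a1, b1, d1⟩ := key y₁ h₁ c₁
  obtain ⟨m2, a2, b2, d2⟩ := key y₂ h₂ c₂
  have h := hS.clique T m1 m2 a1 b1 d1 a2 b2 d2
  rwa [← hD.conj_eq ht, ← hD.conj_eq ht, commute_conj_iff] at h

omit [Finite G] in
/-- Goodness of a pair is uniform on a foreign component. -/
lemma good_uniform {z v w f z' : G} (T : Tri D z v w f) (h : Reach D z z') :
    ¬ Commute z' (v * w * z' * (v * w)) := by
  intro hb
  have hD := hS.base
  have hz' := hD.reach_mem T.hz h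
  have hq2 : v * w * (v * w) = 1 := by
    rw [T.vw.symm.mul_mul_mul_comm, hD.inv v T.hv, hD.inv w T.hw, one_mul]
  have hqi : (v * w)⁻¹ = v * w := inv_eq_of_mul_eq_one_right hq2
  have hq : v * w ∈ Subgroup.closure D :=
    mul_mem (Subgroup.subset_closure T.hv) (Subgroup.subset_closure T.hw)
  have hm : v * w * z' * (v * w) ∈ D := by
    have := hD.conj_mem hq hz'
    rwa [hqi] at this
  have h1 := hD.reach_conj hq h
  rw [hqi] at h1
  have h2 : Reach D z (v * w * z * (v * w)) := (h.trans (Reach.of_comm hz' hm hb)).trans h1.symm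
  have e : v * w * z * (v * w) = f * z * f := by
    have hr : f * (v * w) * z = z * (f * (v * w)) := by rw [← mul_assoc]; exact T.zr.eq.symm
    calc v * w * z * (v * w) = f * (f * (v * w) * z) * (v * w) := by
          rw [show f * (f * (v * w) * z) = f * (f * (v * w * z)) by group, hD.self_cancel T.hf]
      _ = f * z * f * (v * w * (v * w)) := by rw [hr]; group
      _ = f * z * f := by rw [hq2, mul_one]
  exact hS.not_stab T.hf T.hz T.unreach_f (e ▸ h2)

/-- The third members of one pair for one foreign component commute. -/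
lemma thirds_comm {z z₂ v w f g : G} (T : Tri D z v w f) (T₂ : Tri D z₂ v w g)
    (hzz : Reach D z z₂) : Commute g f := by
  by_contra hgf
  have hD := hS.base
  obtain ⟨u, hu, -, hvu, hvum, hev⟩ := hD.exists_partner T.hv
  have hcu : Commute u (v * u) := hvu.symm.mul_right (Commute.refl u)
  have huvu : u * (v * u) = v := by rw [hvu.eq, hD.self_cancel hu]
  have hev' : Eqv D v (v * u) := hD.eqv_trio T.hv hvum ((Commute.refl v).mul_right hvu)
    (by rw [hD.self_cancel T.hv]; exact hu)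
  have hwu : Commute w u := (hev w T.hw).mp T.vw.symm
  have hwvu : Commute w (v * u) := (hev' w T.hw).mp T.vw.symm
  obtain ⟨v', hv', hev1, hvv'D, hvv', hgood⟩ : ∃ v' ∈ D, Eqv D v v' ∧ v * v' ∈ D ∧ Commute v v' ∧
      ¬ Commute z (v' * w * z * (v' * w)) := by
    by_cases h : Commute z (u * w * z * (u * w))
    · refine ⟨v * u, hvum, hev', by rw [hD.self_cancel T.hv]; exact hu,
        (Commute.refl v).mul_right hvu, fun h2 => hD.not_both_bad T.hz hu hvum T.hw hcu
          (huvu.symm ▸ T.hv) hwu hwvu (fun hzu => T.not_zv ((hev z T.hz).mpr hzu)) h h2⟩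
    · exact ⟨u, hu, hev, hvum, hvu, h⟩
  have hzv' : ¬ Commute z v' := fun h => T.not_zv ((hev1 z T.hz).mpr h)
  have hv'w : Commute v' w := ((hev1 w T.hw).mp T.vw.symm).symm
  have hneq' : ¬ Eqv D v' w := fun h => T.neq (hev1.trans h)
  have hv'nw : v' ≠ w := fun e => hneq' (e ▸ Eqv.refl v')
  obtain ⟨f', hf', hf'v', hf'w, hzf', hzr', -, hcl⟩ :=
    hD.exists_third T.hz hv' T.hw hv'w hv'nw hgood
  have T' : Tri D z v' w f' :=
    ⟨T.hz, hv', T.hw, hf', hv'w, hf'v', hf'w, hneq',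
      fun h => T.unreach (h.trans (Reach.of_comm hv' T.hv hvv'.symm)), hzr', hzf'⟩
  have hrv' : Commute (f * v * w) v' :=
    (((hev1 f T.hf).mp T.fv).mul_left hvv').mul_left hv'w.symm
  have hrf' : Commute (f * v * w) f' := hcl _ T.zr.symm (hrv'.mul_right T.rw'.symm)
  have hf'v : Commute f' v := (hev1 f' hf').mpr hf'v'
  obtain ⟨hf'f, -⟩ := hD.comm_triple hf' T.hf T.hv T.hw T.fv T.fw T.vw (T.f_ne_w hD) hrf'.symm hf'v
  have hgv' : Commute g v' := (hev1 g T₂.hf).mp T₂.fv
  have hgf' : ¬ Commute g f' := fun h => hgf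
    (hS.clique T' T₂.hf T.hf hgv' T₂.fw h ((hev1 f T.hf).mp T.fv) T.fw hf'f.symm)
  set r' := f' * v' * w with hr'
  have hr'2 : r' * r' = 1 := T'.r_sq hD
  have hr'i : r'⁻¹ = r' := inv_eq_of_mul_eq_one_right hr'2
  set g' := f' * g * f' with hg'
  have hg'D : g' ∈ D := hD.conj f' hf' g T₂.hf
  have hgg' : ¬ Commute g g' := hD.not_commute_conj T₂.hf hf' hgf'
  have hrg : r' * g * r'⁻¹ = g' := by
    rw [hr'i, hr', hg']
    calc f' * v' * w * g * (f' * v' * w) = f' * (v' * w * g) * (f' * (v' * w)) := by group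
      _ = f' * (g * (v' * w)) * (v' * w * f') := by
        rw [(hgv'.mul_right T₂.fw).eq, (hf'v'.mul_right hf'w).eq]
      _ = f' * g * (v' * w * (v' * w)) * f' := by group
      _ = f' * g * f' := by
        rw [hv'w.symm.mul_mul_mul_comm, hD.inv v' hv', hD.inv w T.hw, one_mul, mul_one]
  have hrg' : r' * g' * r'⁻¹ = g := by
    rw [← hrg]
    calc r' * (r' * g * r'⁻¹) * r'⁻¹ = r' * r' * g * (r' * r')⁻¹ := by group
      _ = g := by rw [hr'2, one_mul, inv_one, mul_one]
  obtain ⟨hmD, hmg, -, hmc, hmfix, l, hml⟩ := hD.mid_spec T₂.hf hg'D hgg'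
  set m := mid g g' with hm
  have hg'v' : Commute g' v' := (hf'v'.mul_left hgv').mul_left hf'v'
  have hmv' : Commute m v' := (hmc v' hgv'.symm hg'v'.symm).symm
  have hmr' : Commute m r' := by
    have e := hmfix r' hrg hrg'
    exact (mul_inv_eq_iff_eq_mul.mp e).symm
  obtain ⟨hmf', -⟩ := hD.comm_triple hmD hf' hv' T.hw hf'v' hf'w hv'w (T'.f_ne_w hD) hmr' hmv'
  have hmeq : m = f' := by
    by_contra hne
    refine hgf' (hD.comm_pair T₂.hf hmD hf' hmf' hne ?_).2
    rw [hmf'.eq]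
    show g * (f' * m) = f' * m * g
    calc g * (f' * m) = f' * (f' * g * f') * m := by
          rw [← mul_assoc f' (f' * g) f', hD.self_cancel hf', mul_assoc]
      _ = f' * (m * g * m) * m := by rw [hmg]
      _ = f' * m * g := by rw [mul_assoc f' (m * g * m) m, hD.cancel_self hmD, mul_assoc]
  -- elements preserving the component of `z`
  have fixed : ∀ σ ∈ Subgroup.closure D, ∀ a, Reach D z a → Reach D z (σ * a * σ⁻¹) →
      Reach D z (σ * z * σ⁻¹) := fun σ hσ a h1 h2 => h2.trans (hD.reach_conj hσ h1).symm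
  have step : ∀ σ ∈ Subgroup.closure D, ∀ τ ∈ Subgroup.closure D, Reach D z (σ * z * σ⁻¹) →
      Reach D z (τ * z * τ⁻¹) → Reach D z (σ * τ * z * (σ * τ)⁻¹) := by
    intro σ hσ τ _ h1 h2
    refine h1.trans ?_
    rw [show σ * τ * z * (σ * τ)⁻¹ = σ * (τ * z * τ⁻¹) * σ⁻¹ by group]
    exact hD.reach_conj hσ h2
  have hr'c : r' ∈ Subgroup.closure D := T'.r_mem
  set r₂ := g * v * w with hr₂
  have hr₂c : r₂ ∈ Subgroup.closure D := T₂.r_mem
  have hr'fix : Reach D z (r' * z * r'⁻¹) := by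
    rw [hzr'.symm.eq, mul_inv_cancel_right]; exact .refl
  have hr₂fix : Reach D z (r₂ * z * r₂⁻¹) := fixed r₂ hr₂c z₂ hzz (by
    rw [T₂.zr.symm.eq, mul_inv_cancel_right]; exact hzz)
  set ρ := g * g' with hρ
  have hρr : ρ = r₂ * (r' * r₂ * r') := by
    have e1 : r' * r₂ * r' = g' * (v * w) := by
      have hvr : Commute (v * w) r' := by
        refine Commute.mul_left ?_ T'.rw'
        exact ((hf'v.symm.mul_right hvv').mul_right T.vw)
      calc r' * r₂ * r' = r' * g * (v * w * r') := by rw [hr₂]; group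
        _ = r' * g * (r' * (v * w)) := by rw [hvr.eq]
        _ = r' * g * r'⁻¹ * (v * w) := by rw [hr'i]; group
        _ = g' * (v * w) := by rw [hrg]
    have hgvw : Commute (v * w) g' := by
      refine Commute.mul_left ?_ ?_
      · exact (hf'v.symm.mul_right T₂.fv.symm).mul_right hf'v.symm
      · exact (hf'w.symm.mul_right T₂.fw.symm).mul_right hf'w.symm
    rw [e1, hρ, hr₂, mul_assoc g v w, hgvw.mul_mul_mul_comm, T.vw.symm.mul_mul_mul_comm v w,
      hD.inv v T.hv, hD.inv w T.hw, one_mul, mul_one]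
  have hρc : ρ ∈ Subgroup.closure D :=
    mul_mem (Subgroup.subset_closure T₂.hf) (Subgroup.subset_closure hg'D)
  have hρfix : Reach D z (ρ * z * ρ⁻¹) := by
    rw [hρr]
    exact step _ hr₂c _ (mul_mem (mul_mem hr'c hr₂c) hr'c) hr₂fix
      (step _ (mul_mem hr'c hr₂c) _ hr'c (step _ hr'c _ hr₂c hr'fix hr₂fix) hr'fix)
  have hρl : ∀ k : ℕ, Reach D z (ρ ^ k * z * (ρ ^ k)⁻¹) := by
    intro k
    induction k with
    | zero => simp only [pow_zero, one_mul, inv_one, mul_one]; exact .refl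
    | succ k ih => rw [pow_succ']; exact step _ hρc _ (pow_mem hρc k) hρfix ih
  set σ := ρ ^ l with hσ
  have hσc : σ ∈ Subgroup.closure D := pow_mem hρc l
  set z₃ := σ * z₂ * σ⁻¹ with hz₃
  have hz₃r : Reach D z z₃ := (hρl l).trans (hD.reach_conj hσc hzz)
  have hσvw : ∀ c, Commute c g → Commute c f' → σ * c * σ⁻¹ = c := by
    intro c hcg hcf
    have : Commute c σ := (hcg.mul_right ((hcf.mul_right hcg).mul_right hcf)).pow_right l
    rw [← this.eq, mul_inv_cancel_right]
  have hz₃c : Commute z₃ (f' * v * w) := by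
    have h := (commute_conj_iff σ).mpr T₂.zr
    rw [conj_mul σ (g * v) w, conj_mul σ g v, hσvw v T₂.fv.symm hf'v.symm,
      hσvw w T₂.fw.symm hf'w.symm, ← hml, hmeq] at h
    exact h
  set r₃ := f' * v * w with hr₃
  have hr₃c : r₃ ∈ Subgroup.closure D :=
    mul_mem (mul_mem (Subgroup.subset_closure hf') (Subgroup.subset_closure T.hv))
      (Subgroup.subset_closure T.hw)
  have hr₃fix : Reach D z (r₃ * z * r₃⁻¹) := fixed r₃ hr₃c z₃ hz₃r (by
    rw [← hz₃c.eq, mul_inv_cancel_right]; exact hz₃r)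
  have hprod : r₃ * r' = v * v' := by
    have h1 : Commute w (f' * v') := hf'w.symm.mul_right hv'w.symm
    rw [hr₃, hr', h1.mul_mul_mul_comm, hf'v.symm.mul_mul_mul_comm, hD.inv f' hf', hD.inv w T.hw,
      one_mul, mul_one]
  have hfinal := step _ hr₃c _ hr'c hr₃fix hr'fix
  rw [hprod, hD.inv_self hvv'D] at hfinal
  exact hS.not_stab hvv'D T.hz (fun h => T.unreach (h.trans (Reach.of_comm hvv'D T.hv
    ((Commute.refl v).mul_left hvv'.symm)))) hfinal

/-- A triangle seen from every member of the component of `f`. -/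
lemma key {f v₁ w₁ z y : G} (M : Tri D f v₁ w₁ z) (hy : Reach D f y) :
    ∃ zy, Tri D y v₁ w₁ zy ∧ Commute zy z ∧ Commute (z * v₁ * w₁) (zy * v₁ * w₁) ∧
      Reach D y (z * v₁ * w₁ * y * (z * v₁ * w₁)) ∧
      Commute y (z * v₁ * w₁ * y * (z * v₁ * w₁)) ∧
      Commute (z * v₁ * w₁ * y * (z * v₁ * w₁)) (zy * v₁ * w₁) := by
  have hD := hS.base
  have hyD := hD.reach_mem M.hz hy
  obtain ⟨zy, hzy, hzyv, hzyw, hyzy, hyr, -, -⟩ :=
    hD.exists_third hyD M.hv M.hw M.vw M.v_ne_w (hS.good_uniform M hy)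
  have Ty : Tri D y v₁ w₁ zy :=
    ⟨hyD, M.hv, M.hw, hzy, M.vw, hzyv, hzyw, M.neq, fun h => M.unreach (hy.trans h), hyr, hyzy⟩
  have hzz : Commute zy z := hS.thirds_comm M Ty hy
  have hrr : Commute (z * v₁ * w₁) (zy * v₁ * w₁) :=
    ((hzz.symm.mul_right M.fv).mul_right M.fw |>.mul_left Ty.rv).mul_left Ty.rw'
  set r := z * v₁ * w₁ with hr
  have hr2 : r * r = 1 := M.r_sq hD
  have hri : r⁻¹ = r := inv_eq_of_mul_eq_one_right hr2
  have h1 : Reach D y (r * y * r) := by
    have h := hD.reach_conj M.r_mem hy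
    rw [← hr, hri, ← M.zr.eq, mul_assoc f r r, hr2, mul_one] at h
    exact hy.symm.trans h
  have h2 : Commute (r * y * r) (zy * v₁ * w₁) := (hrr.mul_left Ty.zr).mul_left hrr
  exact ⟨zy, Ty, hzz, hrr, h1, hS.foreign_clique Ty .refl h1 Ty.zr h2, h2⟩

/-- Two commuting non-equivalent members have pairwise commuting common neighbours. -/
lemma edge_clique {v w p q : G} (hv : v ∈ D) (hw : w ∈ D) (hvw : Commute v w)
    (hne : ¬ Eqv D v w) (hp : p ∈ D) (hq : q ∈ D) (hpv : Commute p v) (hpw : Commute p w)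
    (hqv : Commute q v) (hqw : Commute q w) : Commute p q := by
  have hD := hS.base
  obtain ⟨z, hz, hzv⟩ := hS.sep v hv
  have hzv' : ¬ Commute z v := fun h => hzv (Reach.of_comm hz hv h)
  obtain ⟨u, hu, heu, hgood⟩ := hD.exists_good hz hv hw hvw hzv'
  have huv : Commute v u := (heu v hv).mp (Commute.refl v)
  have hne' : ¬ Eqv D u w := fun h => hne (heu.trans h)
  have hne'' : u ≠ w := fun e => hne' (e ▸ Eqv.refl u)
  have huw : Commute u w := ((heu w hw).mp hvw.symm).symm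
  obtain ⟨f, hf, hfu, hfw, hzf, hzr, -, -⟩ := hD.exists_third hz hu hw huw hne'' hgood
  have T : Tri D z u w f :=
    ⟨hz, hu, hw, hf, huw, hfu, hfw, hne',
      fun h => hzv (h.trans (Reach.of_comm hu hv huv.symm)), hzr, hzf⟩
  obtain ⟨v₁, w₁, t, -, -, -, M, hM⟩ := T.mirror hD
  have : ∀ y ∈ D, Commute y u → Commute y w → Commute y f := by
    intro y hy hyu hyw
    obtain ⟨zy, -, -, -, -, h, -⟩ :=
      hS.key M ((Reach.of_comm hf hu hfu).trans (Reach.of_comm hu hy hyu.symm))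
    rw [hM] at h
    by_contra hyf
    refine hD.not_commute_conj hy hf hyf ?_
    have hi : f * (u * w) = u * w * f := (hfu.mul_right hfw).eq
    have hq' : y * (u * w) = u * w * y := (hyu.mul_right hyw).eq
    convert h using 1
    calc f * y * f = f * (y * (u * w)) * (u * w * f) := by
          rw [show f * (y * (u * w)) * (u * w * f) = f * y * (u * w * (u * w)) * f by group,
            huw.symm.mul_mul_mul_comm, hD.inv u hu, hD.inv w hw, one_mul, mul_one]
      _ = f * u * w * y * (f * u * w) := by rw [hq', ← hi]; group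
  exact hS.clique T hp hq ((heu p hp).mp hpv) hpw (this p hp ((heu p hp).mp hpv) hpw)
    ((heu q hq).mp hqv) hqw (this q hq ((heu q hq).mp hqv) hqw)

/-- The split situation is impossible. -/
theorem absurd' {v₀ : G} (hv₀ : v₀ ∈ D) : False := by
  have hD := hS.base
  obtain ⟨p, hp, q, hq, hpv, hqv, hpq⟩ := hS.wide v₀ hv₀
  have hne₀ : ¬ Eqv D v₀ p := fun h => hpq ((h q hq).mp hqv).symm
  obtain ⟨z, hz, hzv⟩ := hS.sep v₀ hv₀
  obtain ⟨u₀, hu₀, heu, hgood⟩ :=
    hD.exists_good hz hv₀ hp hpv.symm fun h => hzv (Reach.of_comm hz hv₀ h)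
  have hu₀v : Commute v₀ u₀ := (heu v₀ hv₀).mp (Commute.refl v₀)
  have hne : ¬ Eqv D u₀ p := fun h => hne₀ (heu.trans h)
  have hu₀p : Commute u₀ p := ((heu p hp).mp hpv).symm
  obtain ⟨f, hf, hfu, hfp, hzf, hzr, -, -⟩ :=
    hD.exists_third hz hu₀ hp hu₀p (fun e => hne (e ▸ Eqv.refl u₀)) hgood
  have T₀ : Tri D z u₀ p f :=
    ⟨hz, hu₀, hp, hf, hu₀p, hfu, hfp, hne,
      fun h => hzv (h.trans (Reach.of_comm hu₀ hv₀ hu₀v.symm)), hzr, hzf⟩
  obtain ⟨u, w, T, hfwne⟩ : ∃ u w, Tri D z u w f ∧ ¬ Eqv D f w := by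
    by_cases h : Eqv D f p
    · exact ⟨p, u₀, T₀.swap, fun h' => hne (h'.symm.trans h)⟩
    · exact ⟨u₀, p, T₀, h⟩
  obtain ⟨y, hy, hyu, hyw⟩ := hD.exists_comm_not (hS.conjg u T.hv w T.hw) T.neq
  obtain ⟨v₁, w₁, t, -, -, -, M, hM⟩ := T.mirror hD
  obtain ⟨zy, Ty, hzz, hrr, hy₁r, hyy₁, hy₁c⟩ :=
    hS.key M ((Reach.of_comm hf T.hv T.fv).trans (Reach.of_comm T.hv hy hyu.symm))
  rw [hM] at hrr hy₁r hyy₁ hy₁c
  set r := f * u * w with hr
  have hq2 : f * w * (f * w) = 1 := by
    rw [T.fw.symm.mul_mul_mul_comm, hD.inv f hf, hD.inv w T.hw, one_mul]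
  have hy₁ : r * y * r = f * w * y * (f * w) := by
    have e : r = f * w * u := by rw [hr, mul_assoc, T.vw.eq, ← mul_assoc]
    have e' : f * w * u = u * (f * w) := (T.fv.symm.mul_right T.vw).eq.symm
    rw [e]
    conv_lhs => arg 2; rw [e']
    calc f * w * u * y * (u * (f * w)) = f * w * (u * y * u) * (f * w) := by group
      _ = f * w * y * (f * w) := by rw [← hyu.eq, hD.cancel_self T.hv]
  by_cases hyf : Commute y f
  · refine hD.not_commute_conj hy T.hw hyw ?_
    convert hyy₁ using 1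
    rw [hy₁]
    calc w * y * w = w * (f * y * f) * w := by rw [← hyf.eq, hD.cancel_self hf]
      _ = w * f * y * (f * w) := by group
      _ = f * w * y * (f * w) := by rw [← T.fw.eq]
  set y₁ := r * y * r with hy₁def
  have hy₁D : y₁ ∈ D := hD.reach_mem hy hy₁r
  have hne₁ : y₁ ≠ y := by
    intro e
    have : Commute y (f * w) := by
      show y * (f * w) = f * w * y
      conv_lhs => rw [← e, hy₁, mul_assoc, hq2, mul_one]
    exact hyf (hD.comm_pair hy hf T.hw T.fw (fun e' => hfwne (e' ▸ Eqv.refl f)) this).1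
  have huy₁ : Commute u y₁ := (T.rv.mul_right hyu.symm).mul_right T.rv
  by_cases heq : Eqv D y y₁
  · obtain ⟨g, hg, hgw, hgu⟩ := hD.exists_comm_not (hS.conjg w T.hw u T.hv) fun h => T.neq h.symm
    obtain ⟨o, ho, hoy, how, hog⟩ : ∃ o ∈ D, Commute o y ∧ Commute o w ∧ Commute o g := by
      by_cases hgy : Commute y g
      · exact ⟨g, hg, hgy.symm, hgw, Commute.refl g⟩
      · exact hS.proj hy T.hw hg ((Reach.of_comm hy T.hv hyu).trans (Reach.of_comm T.hv T.hw T.vw))
          hgw.symm hyw hgy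
    have hou : ¬ Commute o u := fun h => hgu
      (hS.edge_clique ho T.hw how (fun h' => hyw ((h' y hy).mp hoy.symm)) T.hv hg h.symm T.vw
        hog.symm hgw).symm
    have hof : ¬ Commute o f := fun h => hou
      (hS.edge_clique hf T.hw T.fw hfwne ho T.hv h how T.fv.symm T.vw)
    have e : f * w * o * (f * w) = f * o * f := by
      calc f * w * o * (f * w) = f * (w * o) * (w * f) := by rw [← T.fw.eq]; group
        _ = f * o * (w * w) * f := by rw [← how.eq]; group
        _ = f * o * f := by rw [hD.inv w T.hw, mul_one]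
    have h1 : Commute (f * o * f) y₁ := by
      have h := (commute_conj_iff (f * w)).mpr hoy
      rwa [inv_eq_of_mul_eq_one_right hq2, e, ← hy₁] at h
    have h2 : Commute (f * o * f) y := (heq _ (hD.conj f hf o ho)).mpr h1
    exact hyf (hD.target ho hf hof hoy.symm h2.symm)
  · obtain ⟨g₁, g₂, s, -, -, -, My, hMy⟩ := Ty.mirror hD
    have comm₁ : ∀ c ∈ D, Reach D y c → Commute c (zy * v₁ * w₁) → Commute c y₁ :=
      fun c _ h1 h2 => hS.foreign_clique Ty h1 hy₁r h2 hy₁c
    have hg₁r : Commute g₁ (zy * v₁ * w₁) := hMy ▸ My.rv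
    have hg₂r : Commute g₂ (zy * v₁ * w₁) := hMy ▸ My.rw'
    have hyy : Commute y y₁ := hyy₁
    have hug₁ : Commute u g₁ := hS.edge_clique hy hy₁D hyy heq T.hv My.hv hyu.symm huy₁
      My.fv.symm (comm₁ g₁ My.hv (Reach.of_comm hy My.hv My.fv) hg₁r)
    have hug₂ : Commute u g₂ := hS.edge_clique hy hy₁D hyy heq T.hv My.hw hyu.symm huy₁
      My.fw.symm (comm₁ g₂ My.hw (Reach.of_comm hy My.hw My.fw) hg₂r)
    have hury : Commute u (zy * v₁ * w₁) := hMy ▸ (hyu.symm.mul_right hug₁).mul_right hug₂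
    have hprod : r * (zy * v₁ * w₁) = z * zy := by
      rw [← hM, (Ty.fw.mul_left M.vw).symm.mul_mul_mul_comm, Ty.fv.symm.mul_mul_mul_comm,
        hD.inv v₁ M.hv, hD.inv w₁ M.hw, mul_one, mul_one]
    by_cases hzzy : z = zy
    · have h : Commute y r := by rw [← hM, hzzy]; exact Ty.zr
      exact hyf (hD.comm_triple hy hf T.hv T.hw T.fv T.fw T.vw (T.f_ne_w hD) h hyu).1
    · exact T.not_zv (hD.comm_pair_left T.hv hz Ty.hf hzz.symm hzzy
        (hprod ▸ T.rv.mul_right hury)).symm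

end Split

/-- Connectedness from the existence of non-commuting members with a common neighbour. -/
theorem conn_of_thick (hD : Base D) (hB : Below D) (ht : Thick D) : Conn D := by
  by_contra hn
  have hS := split_of_not_conn hD hB ht hn
  obtain ⟨u, hu, -⟩ := ht
  exact hS.absurd' hu

end Cfsg.Agent.Lib.OddTransp84
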