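import Cfsg.Agent.Lib.OddTransp84.Component

/-!
The path lemma for sets of odd transpositions with trios.
-/

set_option autoImplicit false

namespace Cfsg.Agent.Lib.OddTransp84

variable {G : Type*} [Group G] [Finite G] {D : Set G}

/-- A path of length three without short cut. -/
structure Quad (D : Set G) (d a b x : G) : Prop where
  base : Base D
  below : Below D
  hd : d ∈ D
  ha : a ∈ D
  hb : b ∈ D
  hx : x ∈ D
  da : Commute d a
  ab : Commute a b
  bx : Commute b x
  ndb : ¬ Commute d b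
  nax : ¬ Commute a x
  ndx : ¬ Commute d x
  no : ∀ e ∈ D, Commute e d → Commute e b → Commute e x → False

/-- The members equivalent to `a`. -/
def cls (D : Set G) (a : G) : Set G := {v | v ∈ D ∧ Eqv D a v}

/-- The equivalents `v` of `b` that are bad for `d` and `x`. -/
def badB (D : Set G) (d b x : G) : Set G :=
  {v | v ∈ cls D b ∧ Commute d (v * x * d * (v * x))}

/-- The equivalents `c` of `a` for which `x` is bad with respect to `a` and `c`. -/
def badA (D : Set G) (x a : G) : Set G :=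
  {c | c ∈ cls D a ∧ Commute x (a * c * x * (a * c))}

omit [Finite G] in
lemma Quad.change {d a b x a' b' x' : G} (Q : Quad D d a b x) (ha' : a' ∈ D) (hb' : b' ∈ D)
    (hx' : x' ∈ D) (ea : Eqv D a a') (eb : Eqv D b b') (ex : Eqv D x x') : Quad D d a' b' x' where
  base := Q.base
  below := Q.below
  hd := Q.hd
  ha := ha'
  hb := hb'
  hx := hx'
  da := (ea d Q.hd).mp Q.da
  ab := (eb a' ha').mp ((ea b Q.hb).mp Q.ab.symm).symm
  bx := (ex b' hb').mp ((eb x Q.hx).mp Q.bx.symm).symm
  ndb h := Q.ndb ((eb d Q.hd).mpr h)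
  nax h := Q.nax ((ex a Q.ha).mpr ((ea x' hx').mpr h.symm).symm)
  ndx h := Q.ndx ((ex d Q.hd).mpr h)
  no e he h1 h2 h3 := Q.no e he h1 ((eb e he).mpr h2) ((ex e he).mpr h3)

/-- For a good middle point the image of `a` is equivalent to `a`, and `x` is bad for both. -/
lemma Quad.image {d a b x f : G} (Q : Quad D d a b x) (hf : f ∈ D) (hfb : Commute f b)
    (hfx : Commute f x) (hdf : ¬ Commute d f) (hdj : Commute d (f * b * x))
    (hcl : ∀ c, Commute c d → Commute c (b * x) → Commute c f) :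
    ¬ Commute a f ∧ Commute a (f * x * a * (f * x)) ∧
      f * x * a * (f * x) ∈ badA D x a ∧ f * x * a * (f * x) ≠ a := by
  have hD := Q.base
  have hfne : f ≠ x := by
    rintro rfl
    rw [mul_assoc, Q.bx.eq, hD.self_cancel hf] at hdj
    exact Q.ndb hdj
  have hfb' : f ≠ b := by
    rintro rfl
    rw [hD.inv f hf, one_mul] at hdj
    exact Q.ndx hdj
  have hbne : b ≠ x := fun e => Q.nax (e ▸ Q.ab)
  set j := f * b * x with hj
  have hj2 : j * j = 1 := by
    rw [hj, (hfx.mul_left Q.bx).symm.mul_mul_mul_comm, hfb.symm.mul_mul_mul_comm, hD.inv f hf,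
      hD.inv b Q.hb, hD.inv x Q.hx, one_mul, one_mul]
  have hji : j⁻¹ = j := inv_eq_of_mul_eq_one_right hj2
  have hjb : Commute j b := (hfb.mul_left (Commute.refl b)).mul_left Q.bx.symm
  have hjx : Commute j x := (hfx.mul_left Q.bx).mul_left (Commute.refl x)
  have hjf : Commute j f := ((Commute.refl f).mul_left hfb.symm).mul_left hfx.symm
  have hfx2 : f * x * (f * x) = 1 := by
    rw [hfx.symm.mul_mul_mul_comm, hD.inv f hf, hD.inv x Q.hx, one_mul]
  have hjeq : j = f * x * b := by rw [hj, mul_assoc, Q.bx.eq, ← mul_assoc]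
  have hconj : j * a * j = f * x * a * (f * x) := by
    rw [hjeq]
    nth_rw 2 [show f * x * b = b * (f * x) from (hfb.symm.mul_right Q.bx).eq.symm]
    calc f * x * b * a * (b * (f * x)) = f * x * (b * a * b) * (f * x) := by group
      _ = f * x * a * (f * x) := by rw [← Q.ab.eq, hD.cancel_self Q.hb]
  have hcc : ∀ p, j * (j * p * j) * j = p := fun p => by
    rw [show j * (j * p * j) * j = j * j * p * (j * j) by group, hj2, one_mul, mul_one]
  have hjr : ∀ p, p * j * j = p := fun p => by rw [mul_assoc p j j, hj2, mul_one]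
  have hfxc : ∀ p, f * x * (f * x * p * (f * x)) * (f * x) = p := fun p => by
    rw [show f * x * (f * x * p * (f * x)) * (f * x) = f * x * (f * x) * p * (f * x * (f * x)) by
      group, hfx2, one_mul, mul_one]
  set c := f * x * a * (f * x) with hc
  have hjcj : j * c * j = a := by rw [← hconj, hcc]
  have hjc : j ∈ Subgroup.closure D := mul_mem (mul_mem (Subgroup.subset_closure hf)
    (Subgroup.subset_closure Q.hb)) (Subgroup.subset_closure Q.hx)
  have hcD : c ∈ D := by
    have := hD.conj_mem hjc Q.ha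
    rwa [hji, hconj] at this
  have hcd : Commute c d := by
    have := (commute_conj_iff j).mpr Q.da.symm
    rwa [hji, hconj, ← hdj.eq, mul_assoc, hj2, mul_one] at this
  have hcb : Commute c b := by
    have := (commute_conj_iff j).mpr Q.ab
    rwa [hji, hconj, hjb.eq, mul_assoc, hj2, mul_one] at this
  -- the member `a` is bad with respect to `f` and `x`
  have hca : Commute a c := by
    by_contra h
    obtain ⟨g, hg, hgf, hgx, hag, -, hgag, hgcl⟩ := hD.exists_third Q.ha hf Q.hx hfx hfne h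
    have hgb : Commute g b :=
      (hgcl b Q.ab.symm (hfb.symm.mul_right Q.bx)).symm
    refine Q.no g hg ?_ hgb hgx
    refine (hD.target Q.ha hg hag Q.da ?_).symm
    rw [hgag, ← hc]
    exact hcd.symm
  have haf : ¬ Commute a f := by
    intro h
    refine hD.not_commute_conj Q.ha Q.hx Q.nax ?_
    have e : c = x * a * x := by
      rw [hc]
      calc f * x * a * (f * x) = x * (f * a * f) * x := by rw [hfx.eq]; nth_rw 2 [← hfx.eq]; group
        _ = x * a * x := by rw [← h.eq, hD.cancel_self hf]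
    rw [← e]
    exact hca
  have hne : c ≠ a := by
    intro e
    have h1 : Commute a (f * x) := by
      show a * (f * x) = f * x * a
      conv_lhs => rw [← e, hc, mul_assoc, hfx2, mul_one]
    exact Q.nax (hD.comm_pair Q.ha hf Q.hx hfx hfne h1).2
  have hcx : ¬ Commute c x := by
    intro h
    apply Q.nax
    have := (commute_conj_iff j).mpr h
    rwa [hji, hjx.eq, mul_assoc x j j, hj2, mul_one, hjcj] at this
  -- `x` is bad with respect to `a` and `c`
  have hxbad : Commute x (a * c * x * (a * c)) := by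
    by_contra h
    obtain ⟨g, hg, hga, hgc, hxg, -, -, hgcl⟩ :=
      hD.exists_third Q.hx Q.ha hcD hca hne.symm h
    have hgb : Commute g b :=
      (hgcl b Q.bx (Q.ab.symm.mul_right hcb.symm)).symm
    have hjac : Commute j (a * c) := by
      have e1 : j * a = c * j := by rw [← hconj, hjr]
      have e2 : j * c = a * j := by rw [← hjcj, hjr]
      show j * (a * c) = a * c * j
      rw [← mul_assoc, e1, mul_assoc, e2, ← mul_assoc, ← hca.eq]
    have hgj : Commute g j := (hgcl j hjx hjac).symm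
    exact hxg (hD.comm_triple hg hf Q.hb Q.hx hfb hfx Q.bx hfne hgj hgb).2.symm
  refine ⟨haf, hca, ⟨⟨hcD, ?_⟩, hxbad⟩, hne⟩
  -- otherwise the neighbourhood of `a` has non-commuting members with a common neighbour
  by_contra heq
  obtain ⟨v₀, hv₀, hv₀a, hv₀c⟩ : ∃ v₀ ∈ D, Commute v₀ a ∧ ¬ Commute v₀ c := by
    by_contra hall
    push Not at hall
    refine heq fun v hv => ⟨fun h => hall v hv h, fun h => ?_⟩
    have hv' : j * v * j ∈ D := by
      have := hD.conj_mem hjc hv
      rwa [hji] at this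
    have h1 : Commute (j * v * j) a := by
      have := (commute_conj_iff j).mpr h
      rwa [hji, hjcj] at this
    have h2 := (commute_conj_iff j).mpr (hall _ hv' h1)
    rwa [hji, hcc, hjcj] at h2
  have hA : Base (nbhd D a) := hD.nbhd_base Q.ha
  have mb : b ∈ nbhd D a := hD.nbhd_mem Q.hb Q.hd Q.ab.symm Q.da Q.ndb
  have md : d ∈ nbhd D a := hD.nbhd_mem Q.hd Q.hb Q.da Q.ab.symm fun h => Q.ndb h.symm
  have mc : c ∈ nbhd D a := hD.nbhd_mem hcD hv₀ hca.symm hv₀a hv₀c
  -- transport to the neighbourhood of `b`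
  obtain ⟨σ, hσ, hσab⟩ : Conjg D a b :=
    ((hD.conjg_of_not Q.ha Q.hx Q.nax).trans
      (hD.conjg_of_not Q.hd Q.hx Q.ndx).symm).trans (hD.conjg_of_not Q.hd Q.hb Q.ndb)
  have trans' : ∀ p ∈ nbhd D a, σ * p * σ⁻¹ ∈ nbhd D b := by
    rintro p ⟨⟨hp, hpa⟩, v, ⟨hv, hva⟩, hvp⟩
    exact hD.nbhd_mem (hD.conj_mem hσ hp) (hD.conj_mem hσ hv)
      (hσab ▸ (commute_conj_iff σ).mpr hpa) (hσab ▸ (commute_conj_iff σ).mpr hva)
      fun h => hvp ((commute_conj_iff σ).mp h)
  have small : ∀ p ∈ D, (nbhd D p).ncard < D.ncard := by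
    intro p hp
    refine Set.ncard_lt_ncard (Set.ssubset_iff_exists.mpr ⟨fun y hy => hy.1.1, p, hp, ?_⟩)
    rintro ⟨-, v, ⟨-, hv⟩, hn⟩
    exact hn hv
  have hBb : Base (nbhd D b) := hD.nbhd_base Q.hb
  obtain ⟨hCfg, hCL⟩ := Q.below _ hBb (small b Q.hb)
  have hconn := hCL ⟨_, trans' b mb, _, trans' d md, _, trans' c mc,
    (commute_conj_iff σ).mpr hcb, (commute_conj_iff σ).mpr hcd,
    fun h => Q.ndb ((commute_conj_iff σ).mp h).symm⟩
  have ma : a ∈ nbhd D b := hD.nbhd_mem Q.ha Q.hx Q.ab Q.bx.symm fun h => Q.nax h.symm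
  have mc' : c ∈ nbhd D b := hD.nbhd_mem hcD Q.hx hcb Q.bx.symm fun h => hcx h.symm
  have mx : x ∈ nbhd D b := hD.nbhd_mem Q.hx Q.ha Q.bx.symm Q.ab Q.nax
  obtain ⟨w, hwB, hwx, hwa, hwc⟩ := exists_proj hCfg mx ma mc' (hconn x mx a ma) hca
    (fun h => Q.nax h.symm) fun h => hcx h.symm
  obtain ⟨⟨hw, hwb⟩, v₁, ⟨hv₁, hv₁b⟩, hv₁w⟩ := hwB
  have hwf : Commute w f := by
    by_contra h
    refine haf (hD.target hw hf h hwa.symm ?_)
    have h' := (commute_conj_iff (f * x)).mpr hwc
    rw [inv_eq_of_mul_eq_one_right hfx2] at h'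
    have e1 : f * x * w * (f * x) = f * w * f := by
      calc f * x * w * (f * x) = f * (x * w) * (x * f) := by nth_rw 2 [hfx.eq]; group
        _ = f * w * (x * x) * f := by rw [← hwx.eq]; group
        _ = f * w * f := by rw [hD.inv x Q.hx, mul_one]
    rw [e1, show f * x * c * (f * x) = a by rw [hc, hfxc]] at h'
    exact h'.symm
  have hwj : Commute w j := (hwf.mul_right hwb).mul_right hwx
  have hdw : ¬ Commute d w := fun h => Q.no w hw h.symm hwb hwx
  obtain ⟨b', hb', heb, hgood⟩ := hD.exists_good Q.hd Q.hb hw hwb.symm Q.ndb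
  have hb'f : Commute b' f := ((heb f hf).mp hfb).symm
  have hb'x : Commute b' x := ((heb x Q.hx).mp Q.bx.symm).symm
  have hab' : Commute a b' := (heb a Q.ha).mp Q.ab
  have hb'b : Commute b' b := ((heb b Q.hb).mp (Commute.refl b)).symm
  have hb'w : Commute b' w := ((heb w hw).mp hwb).symm
  have hdb' : ¬ Commute d b' := fun h => Q.ndb ((heb d Q.hd).mpr h)
  have hne' : ¬ Eqv D b' w := fun h => hv₁w ((h v₁ hv₁).mp ((heb v₁ hv₁).mp hv₁b))
  obtain ⟨f₃, hf₃, hf₃b, hf₃w, hdf₃, hdr, -, hcl₃⟩ :=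
    hD.exists_third Q.hd hb' hw hb'w (fun e => hne' (e ▸ Eqv.refl b')) hgood
  have hf₃j : Commute j f₃ :=
    hcl₃ j hdj.symm ((((hb'f.mul_right hb'b).mul_right hb'x).symm).mul_right hwj.symm)
  have hf₃b' : Commute f₃ b := (heb f₃ hf₃).mpr hf₃b
  obtain ⟨-, hf₃x⟩ := hD.comm_triple hf₃ hf Q.hb Q.hx hfb hfx Q.bx hfne hf₃j.symm hf₃b'
  set r := f₃ * b' * w with hr
  have hf₃ne : f₃ ≠ w := by
    rintro rfl
    rw [hr, mul_assoc, hb'w.eq, hD.self_cancel hf₃] at hdr
    exact hdb' hdr
  have hf₃ne' : f₃ ≠ b' := by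
    rintro rfl
    rw [hr, hD.inv f₃ hf₃, one_mul] at hdr
    exact hdw hdr
  have hr2 : r * r = 1 := by
    rw [hr, (hf₃w.mul_left hb'w).symm.mul_mul_mul_comm, hf₃b.symm.mul_mul_mul_comm, hD.inv f₃ hf₃,
      hD.inv b' hb', hD.inv w hw, one_mul, one_mul]
  have hxr : Commute x r := (hf₃x.symm.mul_right hb'x.symm).mul_right hwx.symm
  have haf₃ : Commute a f₃ := by
    by_contra h
    refine hdf₃ (hD.target Q.ha hf₃ h Q.da ?_)
    have e : r * a * r = f₃ * a * f₃ := by
      have e1 : Commute (b' * w) f₃ := (hf₃b.mul_right hf₃w).symm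
      have e2 : Commute (b' * w) a := (hab'.mul_right hwa.symm).symm
      calc r * a * r = f₃ * (b' * w * a) * (f₃ * (b' * w)) := by rw [hr]; group
        _ = f₃ * (a * (b' * w)) * (b' * w * f₃) := by rw [e2.eq, e1.eq]
        _ = f₃ * a * (b' * w * (b' * w)) * f₃ := by group
        _ = f₃ * a * f₃ := by
          rw [hb'w.symm.mul_mul_mul_comm, hD.inv b' hb', hD.inv w hw, one_mul, mul_one]
    have := (commute_conj_iff r).mpr Q.da
    rwa [inv_eq_of_mul_eq_one_right hr2, e, ← hdr.eq, mul_assoc, hr2, mul_one] at this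
  have har : Commute a r := (haf₃.mul_right hab').mul_right hwa.symm
  have hb'r : Commute b' r := (hf₃b.symm.mul_right (Commute.refl b')).mul_right hb'w
  have hK : Base (centMembers D r) := hD.centMembers_base hf₃ hb' hw hf₃b hf₃w hb'w hf₃ne
  have hlt : (centMembers D r).ncard < D.ncard := by
    obtain ⟨y, hy, hyr⟩ :=
      hD.exists_not_comm_triple hf₃ hb' hw hf₃b hf₃w hb'w hf₃ne hf₃ne' hne'
    exact Set.ncard_lt_ncard
      (Set.ssubset_iff_exists.mpr ⟨fun z hz => hz.1.1, y, hy, fun h => hyr h.1.2⟩)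
  have kd : d ∈ centMembers D r := ⟨⟨Q.hd, hdr⟩, b', ⟨hb', hb'r⟩, fun h => hdb' h.symm⟩
  have kb : b' ∈ centMembers D r := ⟨⟨hb', hb'r⟩, d, ⟨Q.hd, hdr⟩, hdb'⟩
  have ka : a ∈ centMembers D r := ⟨⟨Q.ha, har⟩, x, ⟨Q.hx, hxr⟩, fun h => Q.nax h.symm⟩
  have kx : x ∈ centMembers D r := ⟨⟨Q.hx, hxr⟩, a, ⟨Q.ha, har⟩, Q.nax⟩
  obtain ⟨e, he, hed, heb', hex⟩ :=
    (Q.below _ hK hlt).1 d kd a ka b' kb x kx Q.da hab' hb'x hdb' Q.nax Q.ndx
  exact Q.no e he.1.1 hed ((heb e he.1.1).mpr heb') hex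

/-- More good middle points than the bad set at `a` can hold are impossible. -/
lemma Quad.count {d a b x : G} (Q : Quad D d a b x) :
    (cls D b \ badB D d b x).ncard + 1 ≤ (badA D x a).ncard := by
  classical
  have hD := Q.base
  have key : ∀ v ∈ cls D b \ badB D d b x, ∃ f, f ∈ D ∧ Commute f v ∧ Commute f x ∧
      Commute d (f * v * x) ∧ (∀ c, Commute c d → Commute c (v * x) → Commute c f) ∧
      ¬ Commute a f ∧ f * x * a * (f * x) ∈ badA D x a ∧ f * x * a * (f * x) ≠ a := by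
    rintro v ⟨hv, hgood⟩
    have Q' := Q.change Q.ha hv.1 Q.hx (Eqv.refl a) hv.2 (Eqv.refl x)
    obtain ⟨f, hf, hfv, hfx, hdf, hdj, -, hcl⟩ :=
      hD.exists_third Q.hd hv.1 Q.hx Q'.bx (fun e => Q.nax (e ▸ Q'.ab)) fun h => hgood ⟨hv, h⟩
    obtain ⟨h1, -, h2, h3⟩ := Q'.image hf hfv hfx hdf hdj hcl
    exact ⟨f, hf, hfv, hfx, hdj, hcl, h1, h2, h3⟩
  choose! F hF hFv hFx hFd hFc hFa hFm hFn using key
  have hself : a ∈ badA D x a := ⟨⟨Q.ha, Eqv.refl a⟩, by
    rw [hD.inv a Q.ha, one_mul, mul_one]⟩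
  have hinj : Set.InjOn (fun v => F v * x * a * (F v * x)) (cls D b \ badB D d b x) := by
    intro v hv v' hv' heq
    by_contra hvv'
    simp only at heq
    have hvv : Commute v v' := ((hv'.1.2 v hv.1.1).mp ((hv.1.2 b Q.hb).mp (Commute.refl b)).symm)
    have hv'x : Commute v' x := ((hv'.1.2 x Q.hx).mp Q.bx.symm).symm
    have hvx : Commute v x := ((hv.1.2 x Q.hx).mp Q.bx.symm).symm
    have hfv' : Commute (F v) v' :=
      (hv'.1.2 _ (hF v hv)).mp ((hv.1.2 _ (hF v hv)).mpr (hFv v hv))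
    have hjF : Commute (F v * v * x) (F v') := by
      refine hFc v' hv' _ (hFd v hv).symm ?_
      refine Commute.mul_right ((hfv'.mul_left hvv).mul_left hv'x.symm) ?_
      exact ((hFx v hv).mul_left hvx).mul_left (Commute.refl x)
    have hF'v : Commute (F v') v :=
      (hv.1.2 _ (hF v' hv')).mp ((hv'.1.2 _ (hF v' hv')).mpr (hFv v' hv'))
    have hne : F v ≠ x := by
      intro e
      have h := hFd v hv
      rw [e, mul_assoc, hvx.eq, hD.self_cancel Q.hx] at h
      exact Q.ndb ((hv.1.2 d Q.hd).mpr h)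
    obtain ⟨hFF, -⟩ := hD.comm_triple (hF v' hv') (hF v hv) hv.1.1 Q.hx (hFv v hv) (hFx v hv) hvx
      hne hjF.symm hF'v
    have hq2 : ∀ u ∈ cls D b \ badB D d b x, F u * x * (F u * x) = 1 := fun u hu => by
      rw [(hFx u hu).symm.mul_mul_mul_comm, hD.inv _ (hF u hu), hD.inv x Q.hx, one_mul]
    by_cases hFeq : F v = F v'
    · have hvd := (hFd v hv).mul_right (hFd v' hv')
      rw [hFeq, ((hFx v' hv').symm.mul_right hv'x.symm).mul_mul_mul_comm, hD.inv x Q.hx, mul_one,
        (hF'v).symm.mul_mul_mul_comm, hD.inv _ (hF v' hv'), one_mul] at hvd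
      exact Q.ndb ((hv.1.2 d Q.hd).mpr (hD.comm_pair Q.hd hv.1.1 hv'.1.1 hvv hvv' hvd).1)
    · have h1 : Commute a (F v' * F v) := by
        have e1 : F v' * F v = F v' * x * (F v * x) := by
          rw [(hFx v hv).symm.mul_mul_mul_comm, hD.inv x Q.hx, mul_one]
        rw [e1]
        calc a * (F v' * x * (F v * x))
            = (F v' * x * (F v' * x)) * a * (F v' * x) * (F v * x) := by
              rw [hq2 v' hv', one_mul]; group
          _ = F v' * x * (F v' * x * a * (F v' * x)) * (F v * x) := by group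
          _ = F v' * x * (F v * x * a * (F v * x)) * (F v * x) := by rw [heq]
          _ = F v' * x * (F v * x) * a * (F v * x * (F v * x)) := by group
          _ = F v' * x * (F v * x) * a := by rw [hq2 v hv, mul_one]
      exact hFa v hv
        (hD.comm_pair Q.ha (hF v' hv') (hF v hv) hFF (fun e => hFeq e.symm) h1).2
  have hsub : insert a ((fun v => F v * x * a * (F v * x)) '' (cls D b \ badB D d b x)) ⊆
      badA D x a := by
    rintro _ (rfl | ⟨v, hv, rfl⟩)
    · exact hself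
    · exact hFm v hv
  refine le_trans ?_ (Set.ncard_le_ncard hsub (Set.toFinite _))
  rw [Set.ncard_insert_of_notMem (by rintro ⟨v, hv, e⟩; exact hFn v hv e) (Set.toFinite _),
    hinj.ncard_image]

omit [Finite G] in
lemma cls_congr {a a' : G} (h : Eqv D a a') : cls D a' = cls D a := by
  ext v
  exact ⟨fun hv => ⟨hv.1, h.trans hv.2⟩, fun hv => ⟨hv.1, h.symm.trans hv.2⟩⟩

/-- The path lemma. -/
theorem cfg_of_below (hD : Base D) (hB : Below D) : Cfg D := by
  intro d hd a ha b hb x hx hda hab hbx hdb hax hdx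
  by_contra hno
  push Not at hno
  have Q : Quad D d a b x :=
    ⟨hD, hB, hd, ha, hb, hx, hda, hab, hbx, hdb, hax, hdx, hno⟩
  obtain ⟨a₂, ha₂, -, haa, haam, hea⟩ := hD.exists_partner ha
  obtain ⟨x₂, hx₂, -, hxx, hxxm, hex⟩ := hD.exists_partner hx
  have c1 := Q.count
  have c2 := (Q.change ha₂ hb hx hea (Eqv.refl b) (Eqv.refl x)).count
  have c3 := (Q.change ha hb hx₂ (Eqv.refl a) (Eqv.refl b) hex).count
  have c4 := (Q.change ha₂ hb hx₂ hea (Eqv.refl b) hex).count
  -- the bad sets for `a` and its partner are disjoint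
  have dA : ∀ y ∈ D, ¬ Commute y a →
      (badA D y a).ncard + (badA D y a₂).ncard ≤ (cls D a).ncard := by
    intro y hy hya
    have hdis : Disjoint (badA D y a) (badA D y a₂) := by
      rw [Set.disjoint_left]
      rintro c ⟨⟨hc, hec⟩, h1⟩ ⟨-, h2⟩
      exact hD.not_both_bad hy ha ha₂ hc haa haam ((hec a ha).mp (Commute.refl a)).symm
        ((hec a₂ ha₂).mp haa.symm).symm hya h1 h2
    rw [← Set.ncard_union_eq hdis (Set.toFinite _) (Set.toFinite _)]
    refine Set.ncard_le_ncard ?_ (Set.toFinite _)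
    rintro c (h | h)
    · exact h.1
    · exact cls_congr hea ▸ h.1
  -- the bad sets for `x` and its partner are disjoint
  have hdisB : Disjoint (badB D d b x) (badB D d b x₂) := by
    rw [Set.disjoint_left]
    rintro v ⟨⟨hv, hev⟩, h1⟩ ⟨-, h2⟩
    have hxv : Commute x v := (hev x hx).mp hbx.symm
    have hx₂v : Commute x₂ v := (hev x₂ hx₂).mp ((hex b hb).mp hbx).symm
    exact hD.not_both_bad hd hx hx₂ hv hxx hxxm hxv.symm hx₂v.symm hdx
      (by rwa [hxv.eq]) (by rwa [hx₂v.eq])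
  have dB : (badB D d b x).ncard + (badB D d b x₂).ncard ≤ (cls D b).ncard := by
    rw [← Set.ncard_union_eq hdisB (Set.toFinite _) (Set.toFinite _)]
    exact Set.ncard_le_ncard (Set.union_subset (fun v h => h.1) fun v h => h.1) (Set.toFinite _)
  have split : ∀ y, (cls D b \ badB D d b y).ncard + (badB D d b y).ncard = (cls D b).ncard :=
    fun y => Set.ncard_sdiff_add_ncard_of_subset (fun v h => h.1) (Set.toFinite _)
  have heq : (cls D a).ncard = (cls D b).ncard := by
    obtain ⟨σ, hσ, hσab⟩ : Conjg D a b :=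
      ((hD.conjg_of_not ha hx hax).trans (hD.conjg_of_not hd hx hdx).symm).trans
        (hD.conjg_of_not hd hb hdb)
    have : cls D b = (fun v => σ * v * σ⁻¹) '' cls D a := by
      ext v
      constructor
      · rintro ⟨hv, hev⟩
        refine ⟨σ⁻¹ * v * σ⁻¹⁻¹, ⟨hD.conj_mem (inv_mem hσ) hv, ?_⟩, by group⟩
        have := hD.eqv_conj (inv_mem hσ) hev
        rwa [show σ⁻¹ * b * σ⁻¹⁻¹ = a by rw [← hσab]; group] at this
      · rintro ⟨v, ⟨hv, hev⟩, rfl⟩
        exact ⟨hD.conj_mem hσ hv, hσab ▸ hD.eqv_conj hσ hev⟩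
    rw [this, Set.ncard_image_of_injective _ fun p q h => mul_left_cancel (mul_right_cancel h)]
  have e1 := dA x hx fun h => hax h.symm
  have e2 := dA x₂ hx₂ fun h => hax ((hex a ha).mpr h.symm)
  have s1 := split x
  have s2 := split x₂
  omega

/-- Both statements for every finite set of odd transpositions with trios. -/
theorem cfg_and_conn (D : Set G) (hD : Base D) : Cfg D ∧ (Thick D → Conn D) := by
  induction hn : D.ncard using Nat.strong_induction_on generalizing D with
  | _ n ih =>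
    subst hn
    have hB : Below D := fun S hS hlt => ih _ hlt S hS rfl
    exact ⟨cfg_of_below hD hB, conn_of_thick hD hB⟩

end Cfsg.Agent.Lib.OddTransp84
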