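import Cfsg.Agent.Lib.OddTransp84.Reduction
import Cfsg.Agent.Lib.OddTransp84.Core.Main

/-!
The quotient by the largest normal 2-subgroup is a configuration generated by two points, unless
the class collapses.
-/

set_option autoImplicit false

namespace Cfsg.Agent.Lib.OddTransp84.Reduction.Gen

open Cfsg.Agent.Lib.OddTransp84 Cfsg.Agent.Lib.OddTransp84.Core

universe u

variable {G : Type u} [Group G] [Finite G] {D : Set G} {d x : G}

lemma commute_of_map (h : Gen D d x) {a b : G} (ha : a ∈ D) (hb : b ∈ D)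
    (hc : Commute (QuotientGroup.mk' (Cfsg.pCore 2 G) a) (QuotientGroup.mk' (Cfsg.pCore 2 G) b)) :
    Commute a b := by
  by_contra hab
  have ho := h.pair a ha b hb hab
  have hmem : a * b * (a * b) ∈ Cfsg.pCore 2 G := by
    rw [← QuotientGroup.ker_mk' (Cfsg.pCore 2 G), MonoidHom.mem_ker, map_mul, map_mul,
      hc.symm.mul_mul_mul_comm, ← map_mul, h.sq a ha, ← map_mul, h.sq b hb, map_one, one_mul]
  obtain ⟨k, hk⟩ := Cores.pCore_isPGroup (G := G) 2 ⟨_, hmem⟩
  have h2 : (a * b * (a * b)) ^ 2 ^ k = 1 := congrArg Subtype.val hk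
  rw [← pow_two, ← pow_mul, ← pow_succ'] at h2
  have h1 : orderOf (a * b) = 1 :=
    Nat.Coprime.eq_one_of_dvd (Nat.Coprime.pow_right _ (Nat.coprime_two_right.2 ho))
      (orderOf_dvd_of_pow_eq_one h2)
  rw [orderOf_eq_one_iff] at h1
  exact hab ((eq_inv_of_mul_eq_one_left h1).trans (h.inv_eq hb) ▸ Commute.refl b)

lemma map_mem_cls (h : Gen D d x) {u : G} (hu : u ∈ cls D d) :
    QuotientGroup.mk' (Cfsg.pCore 2 G) u ∈
      cls (QuotientGroup.mk' (Cfsg.pCore 2 G) '' D) (QuotientGroup.mk' (Cfsg.pCore 2 G) d) := by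
  refine ⟨⟨u, hu.1, rfl⟩, ?_⟩
  rintro _ ⟨v, hv, rfl⟩
  exact ⟨fun hc => ((hu.2 v hv).1 (h.commute_of_map hv h.dmem hc)).map _,
    fun hc => ((hu.2 v hv).2 (h.commute_of_map hv hu.1 hc)).map _⟩

theorem quotient (h : Gen D d x) : Gen (QuotientGroup.mk' (Cfsg.pCore 2 G) '' D)
    (QuotientGroup.mk' (Cfsg.pCore 2 G) d) (QuotientGroup.mk' (Cfsg.pCore 2 G) x) where
  sq := by rintro _ ⟨a, ha, rfl⟩; rw [← map_mul, h.sq a ha, map_one]
  ne := by
    rintro _ ⟨a, ha, rfl⟩ e
    obtain ⟨g, hg⟩ := h.conjg a ha x h.xmem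
    apply h.nc
    refine h.commute_of_map h.dmem h.xmem ?_
    rw [← hg, map_mul, map_mul, e, mul_one, ← map_mul, mul_inv_cancel, map_one]
    exact Commute.one_right _
  conj g := by
    rintro _ ⟨a, ha, rfl⟩
    obtain ⟨g, rfl⟩ := QuotientGroup.mk'_surjective (Cfsg.pCore 2 G) g
    exact ⟨g * a * g⁻¹, h.conj g a ha, by rw [map_mul, map_mul, map_inv]⟩
  pair := by
    rintro _ ⟨a, ha, rfl⟩ _ ⟨b, hb, rfl⟩ hab
    rw [← map_mul]
    exact (h.pair a ha b hb fun e => hab (e.map _)).of_dvd_nat (orderOf_map_dvd _ _)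
  conjg := by
    rintro _ ⟨a, ha, rfl⟩ _ ⟨b, hb, rfl⟩
    obtain ⟨g, hg⟩ := h.conjg a ha b hb
    exact ⟨QuotientGroup.mk' _ g, by rw [← map_inv, ← map_mul, ← map_mul, hg]⟩
  dmem := ⟨d, h.dmem, rfl⟩
  xmem := ⟨x, h.xmem, rfl⟩
  gen := by
    refine le_antisymm le_top ?_
    rw [← Subgroup.map_top_of_surjective _ (QuotientGroup.mk'_surjective (Cfsg.pCore 2 G)), ← h.gen,
      MonoidHom.map_closure]
    refine Subgroup.closure_mono ?_
    rintro _ ⟨e, he | he, rfl⟩
    · exact Or.inl (h.map_mem_cls he)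
    · exact Or.inr (by rw [Set.mem_singleton_iff.1 he]; rfl)
  nc e := h.nc (h.commute_of_map h.dmem h.xmem e)

/-- A trivial core and a nontrivial class give a configuration generated by two points. -/
theorem conf (h : Gen D d x) (hcore : Cfsg.pCore 2 G = ⊥) {u : G} (hu : u ∈ cls D d) (hud : u ≠ d) :
    ∃ hC : Conf D, Subgroup.closure D = ⊤ ∧
      ∃ P R : hC.Pt, P ≠ R ∧ Conf.line P R = ⊤ := by
  have key : ∀ w ∈ cls D d, w ≠ d → d * w ∈ D := by
    intro w hw hwd
    rcases h.dichotomy h.mem_cls hw with h1 | ⟨f, hf, h1⟩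
    · rw [hcore, Subgroup.mem_bot] at h1
      exact absurd ((eq_inv_of_mul_eq_one_right h1).trans (h.inv_eq h.dmem)) hwd
    · rw [hcore, Subgroup.mem_bot] at h1
      rwa [(eq_inv_of_mul_eq_one_right h1).trans (h.inv_eq hf)]
  have hB : Base D := by
    refine ⟨h.sq, h.ne, fun a ha b hb => h.conj' ha hb,
      fun a ha b hb => or_iff_not_imp_left.2 (h.pair a ha b hb), ?_, ?_⟩
    · intro y hy
      obtain ⟨g, rfl⟩ := h.conjg d h.dmem y hy
      exact ⟨g * u * g⁻¹, h.conj g u hu.1, fun e => hud (mul_left_cancel (mul_right_cancel e)),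
        (commute_conj_iff g).2 (h.cls_comm hu h.mem_cls),
        by rw [← OddTransp84.conj_mul]; exact h.conj g _ (key u hu hud)⟩
    · intro y hy
      by_contra hall
      push Not at hall
      exact h.not_central hy
        (h.eq_center (hall x h.xmem).symm fun e he => (hall e he.1).symm)
  have hthick : ¬ Thick D := fun ht => by
    obtain ⟨hC, hT⟩ := cfg_and_conn D hB
    obtain ⟨e, he, hed, hex⟩ := exists_common hC h.dmem (hT ht d h.dmem x h.xmem)
    exact h.not_comm_both he h.mem_cls hed hex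
  have tr : ∀ a ∈ D, ∀ b ∈ D, ∀ c ∈ D, Commute a b → Commute b c → Commute a c := by
    intro a ha b hb c hc hab hbc
    by_contra hac
    exact hthick ⟨a, ha, c, hc, b, hb, hab.symm, hbc, hac⟩
  have hcls : ∀ c ∈ D, Commute c d → c ∈ cls D d := fun c hc hcd => ⟨hc, fun v hv =>
    ⟨fun e => tr v hv d h.dmem c hc e hcd.symm, fun e => tr v hv c hc d h.dmem e hcd⟩⟩
  have hmul : ∀ a ∈ D, ∀ b ∈ D, Commute a b → a ≠ b → a * b ∈ D := by
    intro a ha b hb hab hne
    obtain ⟨g, hg⟩ := h.conjg a ha d h.dmem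
    have hc : Commute (g * b * g⁻¹) d := hg ▸ (commute_conj_iff g).2 hab.symm
    have hne' : g * b * g⁻¹ ≠ d := fun e =>
      hne (mul_left_cancel (mul_right_cancel (hg.trans e.symm)))
    have h1 := key _ (hcls _ (h.conj g b hb) hc) hne'
    rw [← hg, ← OddTransp84.conj_mul] at h1
    have h2 := h.conj g⁻¹ _ h1
    rwa [inv_inv, ← mul_assoc, ← mul_assoc, inv_mul_cancel, one_mul, inv_mul_cancel_right] at h2
  have hC : Conf D := ⟨h.sq, h.ne, h.conj, tr, hmul, h.pair, fun a ha => by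
    obtain ⟨b, hb, hne, hc, -⟩ := hB.trio a ha
    exact ⟨b, hb, hne, hc⟩⟩
  have hgen : Subgroup.closure D = ⊤ := top_le_iff.1 (h.gen ▸ Subgroup.closure_mono (fun e he =>
    he.elim (fun he => he.1) fun he => Set.mem_singleton_iff.1 he ▸ h.xmem))
  refine ⟨hC, hgen, hC.pt h.dmem, hC.pt h.xmem, fun e => ?_, top_le_iff.1 ?_⟩
  · exact h.nc (Conf.commute_mem (Conf.mem_pt h.dmem) (e ▸ Conf.mem_pt h.xmem))
  · rw [← h.gen, Subgroup.closure_le]
    rintro e (he | he)
    · exact Conf.left_le_line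
        ((Conf.mem_iff_commute (Conf.mem_pt h.dmem) (h.ne d h.dmem) he.1).2
          (h.cls_comm he h.mem_cls))
    · rw [Set.mem_singleton_iff.1 he]
      exact Conf.right_le_line (Conf.mem_pt h.xmem)

end Cfsg.Agent.Lib.OddTransp84.Reduction.Gen
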