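import Cfsg.Agent.Lib.OddTransp84.Config
import Cfsg.Agent.Lib.Cores.Basic
import Cfsg.Agent.Lib.Involutions.BaerSuzuki

/-!
Odd transpositions: the group generated by a class of members with the same commuting members and
one further member, modulo its largest normal 2-subgroup.
-/

set_option autoImplicit false

namespace Cfsg.Agent.Lib.OddTransp84.Reduction

open Cfsg.Agent.Lib.OddTransp84

variable {G : Type*} [Group G]

section Involutions

lemma flip {a r : G} (ha : a * a = 1) (h : a * r * a = r⁻¹) (k : ℕ) :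
    a * r ^ k = (r ^ k)⁻¹ * a := by
  have hai : a⁻¹ = a := inv_eq_of_mul_eq_one_right ha
  have h1 : a * r ^ k * a = (r ^ k)⁻¹ := by
    have := conj_pow' a r k
    rwa [hai, h, inv_pow] at this
  rw [← h1, mul_assoc _ a a, ha, mul_one]

lemma conj_sq {a : G} (ha : a * a = 1) (g : G) : g * a * g⁻¹ * (g * a * g⁻¹) = 1 := by
  rw [← conj_mul, ha, mul_one, mul_inv_cancel]

/-- An involution exchanging two involutions whose product has odd order. -/
lemma exists_swap {a b : G} (ha : a * a = 1) (hb : b * b = 1) (ho : Odd (orderOf (a * b))) :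
    ∃ h, (∃ g, g * a * g⁻¹ = h) ∧ h * a * h = b ∧ h * b * h = a ∧
      ∀ c, Commute c a → Commute c b → Commute c h := by
  obtain ⟨i, hi⟩ := ho
  set r := a * b with hr
  have hai : a⁻¹ = a := inv_eq_of_mul_eq_one_right ha
  have hinv : r⁻¹ = b * a := by rw [hr, mul_inv_rev, hai, inv_eq_of_mul_eq_one_right hb]
  have hflip : a * r * a = r⁻¹ := by rw [hinv, hr, ← mul_assoc, ha, one_mul]
  have hn : r ^ (2 * i + 1) = 1 := by rw [← hi]; exact pow_orderOf_eq_one r
  set h := r ^ i * a with hh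
  have e1 : r ^ (i * (i + 1)) * a * (r ^ (i * (i + 1)))⁻¹ = h := by
    rw [mul_assoc, show a * (r ^ (i * (i + 1)))⁻¹ = r ^ (i * (i + 1)) * a from ?_, ← mul_assoc,
      ← pow_add, show i * (i + 1) + i * (i + 1) = (2 * i + 1) * i + i by ring, pow_add, pow_mul, hn,
      one_pow, one_mul]
    rw [eq_comm, eq_mul_inv_iff_mul_eq, mul_assoc, flip ha hflip, ← mul_assoc, mul_inv_cancel,
      one_mul]
  have h2 : h * h = 1 := by rw [← e1]; exact conj_sq ha _
  have h2i : r ^ (2 * i) = b * a := by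
    rw [← hinv]
    exact eq_inv_of_mul_eq_one_left (by rw [← pow_succ]; exact hn)
  have hab : h * a * h = b := by
    rw [hh, mul_assoc (r ^ i) a a, ha, mul_one, ← mul_assoc, ← pow_add, ← two_mul, h2i,
      mul_assoc b a a, ha, mul_one]
  refine ⟨h, ⟨_, e1⟩, hab, ?_, fun c hca hcb => ((hca.mul_right hcb).pow_right i).mul_right hca⟩
  calc h * b * h = h * (h * a * h) * h := by rw [hab]
    _ = (h * h) * a * (h * h) := by group
    _ = a := by rw [h2, one_mul, mul_one]

/-- The third involution of a pair `y, q`. -/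
lemma exists_third' {y q : G} (hy : y * y = 1) (hq : q * q = 1)
    (ho : Odd (orderOf (y * (q * y * q)))) :
    ∃ f, (∃ g, g * y * g⁻¹ = f) ∧ Commute f q ∧ Commute y (f * q) ∧ f * y * f = q * y * q ∧
      ∀ c, Commute c y → Commute c q → Commute c f := by
  obtain ⟨i, hi⟩ := ho
  have hyi : y⁻¹ = y := inv_eq_of_mul_eq_one_right hy
  have hqi : q⁻¹ = q := inv_eq_of_mul_eq_one_right hq
  set r := y * q with hr
  have hs : r * r = y * (q * y * q) := by rw [hr]; group
  have hinv : r⁻¹ = q * y := by rw [hr, mul_inv_rev, hqi, hyi]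
  have hflip : y * r * y = r⁻¹ := by rw [hinv, hr, ← mul_assoc, hy, one_mul]
  have hn : r ^ (2 * (2 * i + 1)) = 1 := by
    rw [pow_mul, sq, hs, ← hi, pow_orderOf_eq_one]
  set n := 2 * i + 1 with hnn
  have hrn : (r ^ n)⁻¹ = r ^ n := by
    apply inv_eq_of_mul_eq_one_right
    rw [← pow_add, ← two_mul, hn]
  set f := r ^ i * y * (r ^ i)⁻¹ with hf
  have hf1 : f = r ^ (2 * i) * y := by
    rw [hf, mul_assoc, show y * (r ^ i)⁻¹ = r ^ i * y from ?_, ← mul_assoc, ← pow_add, two_mul]
    rw [eq_comm, eq_mul_inv_iff_mul_eq, mul_assoc, flip hy hflip, ← mul_assoc, mul_inv_cancel,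
      one_mul]
  have hff : f * f = 1 := conj_sq hy _
  have hf2 : f * q = r ^ n := by rw [hf1, mul_assoc, ← hr, ← pow_succ]
  have hyj : Commute y (r ^ n) := by
    unfold Commute SemiconjBy
    rw [flip hy hflip, hrn]
  have hqj : Commute q (r ^ n) := by
    have := hyj.mul_left ((Commute.refl r).pow_right n)
    rwa [hr, ← mul_assoc, hy, one_mul] at this
  have hfq : Commute f q := by
    have : f = r ^ n * q := by rw [← hf2, mul_assoc, hq, mul_one]
    rw [this]
    exact hqj.symm.mul_left (Commute.refl q)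
  have hyj' : Commute y (f * q) := hf2.symm ▸ hyj
  refine ⟨f, ⟨_, rfl⟩, hfq, hyj', ?_, ?_⟩
  · have h1 : f * q * y = y * (f * q) := hyj'.eq.symm
    calc f * y * f = f * (y * (f * q)) * q := by simp [mul_assoc, hq]
      _ = f * (f * q * y) * q := by rw [h1]
      _ = q * y * q := by rw [mul_assoc f q y, ← mul_assoc f f, hff, one_mul]
  · intro c hcy hcq
    have hcr : Commute c r := hcy.mul_right hcq
    exact ((hcr.pow_right i).mul_right hcy).mul_right (hcr.pow_right i).inv_right

/-- Two involutions with product of order dividing four generate a 2-group. -/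
lemma isPGroup_pair {a b : G} (ha : a * a = 1) (hb : b * b = 1) (h4 : (a * b) ^ 4 = 1) :
    IsPGroup 2 (Subgroup.closure ({a, b} : Set G)) := by
  set r := a * b with hr
  have hz : IsPGroup 2 (Subgroup.zpowers r) := by
    rintro ⟨_, k, rfl⟩
    refine ⟨2, Subtype.ext ?_⟩
    show (r ^ k) ^ (2 ^ 2) = 1
    rw [← zpow_natCast, zpow_comm, zpow_natCast]
    norm_num [h4]
  have hza : IsPGroup 2 (Subgroup.zpowers a) := by
    rintro ⟨_, k, rfl⟩
    refine ⟨1, Subtype.ext ?_⟩
    show (a ^ k) ^ (2 ^ 1) = 1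
    rw [← zpow_natCast, zpow_comm, zpow_natCast]
    norm_num [pow_two, ha]
  have hai : a⁻¹ = a := inv_eq_of_mul_eq_one_right ha
  have hconj : a * r * a⁻¹ = r⁻¹ := by
    rw [hr, hai, mul_inv_rev, hai, inv_eq_of_mul_eq_one_right hb, ← mul_assoc, ha, one_mul]
  have hnorm : Subgroup.zpowers a ≤ Subgroup.normalizer (Subgroup.zpowers r : Set G) := by
    rw [Subgroup.zpowers_le, Subgroup.mem_normalizer_iff]
    intro y
    constructor
    · rintro ⟨k, rfl⟩
      show a * r ^ k * a⁻¹ ∈ Subgroup.zpowers r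
      rw [← conj_zpow, hconj]
      exact Subgroup.zpow_mem _ (inv_mem (Subgroup.mem_zpowers r)) k
    · rintro ⟨k, hk⟩
      change r ^ k = a * y * a⁻¹ at hk
      rw [show y = a⁻¹ * r ^ k * a⁻¹⁻¹ by rw [hk]; group, ← conj_zpow, hai,
        show a * r * a⁻¹ = r⁻¹ from hconj]
      exact Subgroup.zpow_mem _ (inv_mem (Subgroup.mem_zpowers r)) k
  refine (hza.to_sup_of_normal_right' hz hnorm).to_le ((Subgroup.closure_le _).2 ?_)
  rintro y (rfl | rfl)
  · exact Subgroup.mem_sup_left (Subgroup.mem_zpowers y)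
  · rw [show y = a⁻¹ * r by rw [hr, inv_mul_cancel_left]]
    exact mul_mem (Subgroup.mem_sup_left (inv_mem (Subgroup.mem_zpowers a)))
      (Subgroup.mem_sup_right (Subgroup.mem_zpowers r))

end Involutions

/-- The standing situation: one class `D` of odd transpositions, generation by the members with the
same commuting members as `d` and by `x`. -/
structure Gen (D : Set G) (d x : G) : Prop where
  sq : ∀ a ∈ D, a * a = 1
  ne : ∀ a ∈ D, a ≠ 1
  conj : ∀ g : G, ∀ a ∈ D, g * a * g⁻¹ ∈ D
  pair : ∀ a ∈ D, ∀ b ∈ D, ¬ Commute a b → Odd (orderOf (a * b))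
  conjg : ∀ a ∈ D, ∀ b ∈ D, ∃ g : G, g * a * g⁻¹ = b
  dmem : d ∈ D
  xmem : x ∈ D
  gen : Subgroup.closure (cls D d ∪ {x}) = ⊤
  nc : ¬ Commute d x

namespace Gen

variable {D : Set G} {d x : G} (h : Gen D d x)
include h

lemma inv_eq {a : G} (ha : a ∈ D) : a⁻¹ = a := inv_eq_of_mul_eq_one_right (h.sq a ha)

lemma conj' {a b : G} (ha : a ∈ D) (hb : b ∈ D) : a * b * a ∈ D := by
  have := h.conj a b hb
  rwa [h.inv_eq ha] at this

lemma comm_cls {c u v : G} (hc : c ∈ D) (hu : u ∈ cls D d) (hv : v ∈ cls D d) (hcu : Commute c u) :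
    Commute c v := ((hu.2.symm.trans hv.2) c hc).1 hcu

lemma cls_comm {u v : G} (hu : u ∈ cls D d) (hv : v ∈ cls D d) : Commute u v :=
  h.comm_cls hu.1 hu hv (Commute.refl u)

lemma mem_cls : d ∈ cls D d := ⟨h.dmem, Eqv.refl d⟩

lemma nc_x {u : G} (hu : u ∈ cls D d) : ¬ Commute x u :=
  fun e => h.nc (h.comm_cls h.xmem hu h.mem_cls e).symm

lemma eq_center {z : G} (hx : Commute z x) (hE : ∀ e ∈ cls D d, Commute z e) :
    z ∈ Subgroup.center G := by
  have h1 : Subgroup.closure (cls D d ∪ {x}) ≤ Subgroup.centralizer {z} :=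
    (Subgroup.closure_le _).2 fun e he => Subgroup.mem_centralizer_singleton_iff.2
      (he.elim (fun he => (hE e he).eq.symm) fun he => (he ▸ hx).eq.symm)
  exact Subgroup.mem_center_iff.2 fun g =>
    Subgroup.mem_centralizer_singleton_iff.1 (h1 (h.gen ▸ Subgroup.mem_top g))

lemma not_central {a : G} (ha : a ∈ D) : a ∉ Subgroup.center G := fun hz => by
  obtain ⟨g, hg⟩ := h.conjg a ha x h.xmem
  rw [Subgroup.mem_center_iff.1 hz g, mul_inv_cancel_right] at hg
  exact h.nc (hg ▸ Subgroup.mem_center_iff.1 hz d)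

lemma not_comm_both {a u : G} (ha : a ∈ D) (hu : u ∈ cls D d) (hau : Commute a u) :
    ¬ Commute a x := fun hax =>
  h.not_central ha (h.eq_center hax fun _ he => h.comm_cls ha hu he hau)

lemma eqv_conj {a b : G} (g : G) (hab : Eqv D a b) : Eqv D (g * a * g⁻¹) (g * b * g⁻¹) := by
  intro v hv
  have h' := hab (g⁻¹ * v * g⁻¹⁻¹) (h.conj _ v hv)
  rw [← commute_conj_iff g, ← commute_conj_iff g (b := b)] at h'
  simpa [mul_assoc] using h'

lemma target {y g c : G} (hy : y ∈ D) (hg : g ∈ D) (hn : ¬ Commute y g) (h1 : Commute c y)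
    (h2 : Commute c (g * y * g)) : Commute c g := by
  have h3 : Commute c (y * g * (y * g)) := by
    have := h1.mul_right h2
    rwa [show y * (g * y * g) = y * g * (y * g) by group] at this
  have h4 := h1.mul_right (commute_of_sq_odd (h.pair y hy g hg hn) h3)
  rwa [← mul_assoc, h.sq y hy, one_mul] at h4

lemma comm_pair_left {y u v : G} (hy : y ∈ D) (hu : u ∈ D) (hv : v ∈ D) (huv : Commute u v)
    (hne : u ≠ v) (hc0 : Commute y (u * v)) : Commute y u := by
  by_contra hyu
  have hyv : ¬ Commute y v := by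
    intro hyv
    apply hyu
    have := hc0.mul_right hyv
    rwa [mul_assoc, h.sq v hv, mul_one] at this
  obtain ⟨N, hN⟩ := h.pair y hy v hv hyv
  obtain ⟨M, hM⟩ := h.pair y hy u hu hyu
  have hq2 : (u * v) ^ 2 = 1 := by
    rw [pow_two, huv.symm.mul_mul_mul_comm, h.sq u hu, h.sq v hv, one_mul]
  have hc : Commute (y * u) (u * v) := hc0.mul_left ((Commute.refl u).mul_right huv)
  have heq : y * v = y * u * (u * v) := by
    rw [mul_assoc, ← mul_assoc u u, h.sq u hu, one_mul]
  have h1 : (y * v) ^ (orderOf (y * v) * orderOf (y * u)) = 1 := by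
    rw [pow_mul, pow_orderOf_eq_one, one_pow]
  rw [heq, hc.mul_pow, ← heq] at h1
  rw [show (y * u) ^ (orderOf (y * v) * orderOf (y * u)) = 1 by
      rw [mul_comm, pow_mul, pow_orderOf_eq_one, one_pow], one_mul, hN, hM,
    show (2 * N + 1) * (2 * M + 1) = 2 * (2 * N * M + N + M) + 1 by ring, pow_succ, pow_mul, hq2,
    one_pow, one_mul] at h1
  apply hne
  calc u = u * v * v := by rw [mul_assoc, h.sq v hv, mul_one]
    _ = v := by rw [h1, one_mul]

lemma comm_pair {y u v : G} (hy : y ∈ D) (hu : u ∈ D) (hv : v ∈ D) (huv : Commute u v)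
    (hne : u ≠ v) (hc : Commute y (u * v)) : Commute y u ∧ Commute y v :=
  ⟨h.comm_pair_left hy hu hv huv hne hc,
    h.comm_pair_left hy hv hu huv.symm hne.symm (huv.eq ▸ hc)⟩

/-- A good `y` gives a third member commuting with the class. -/
lemma exists_third {y u v : G} (hy : y ∈ D) (hu : u ∈ cls D d) (hv : v ∈ cls D d) (hne : u ≠ v)
    (hgood : ¬ Commute y (u * v * y * (u * v))) :
    ∃ f ∈ D, (∀ e ∈ cls D d, Commute f e) ∧ Commute f (u * v) ∧ ¬ Commute y f ∧
      Commute y (f * (u * v)) ∧ f * y * f = u * v * y * (u * v) := by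
  have huv := h.cls_comm hu hv
  have hq2 : u * v * (u * v) = 1 := by
    rw [huv.symm.mul_mul_mul_comm, h.sq u hu.1, h.sq v hv.1, one_mul]
  have hqi : (u * v)⁻¹ = u * v := inv_eq_of_mul_eq_one_right hq2
  have hy' : u * v * y * (u * v) ∈ D := by
    have := h.conj (u * v) y hy
    rwa [hqi] at this
  obtain ⟨f, ⟨g, hg⟩, hfq, hyj, hfy, -⟩ :=
    exists_third' (h.sq y hy) hq2 (h.pair y hy _ hy' hgood)
  have hf : f ∈ D := hg ▸ h.conj g y hy
  refine ⟨f, hf, fun e he => h.comm_cls hf hu he (h.comm_pair hf hu.1 hv.1 huv hne hfq).1, hfq,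
    fun hyf => hgood ?_, hyj, hfy⟩
  have hyq : Commute y (u * v) := by
    have := hyf.mul_right hyj
    rwa [← mul_assoc, h.sq f hf, one_mul] at this
  rw [← hyq.eq, mul_assoc, hq2, mul_one]

variable [Finite G]

/-- If `x` is bad for `u, v`, so is every member not commuting with `u`. -/
lemma bad_all {y u v : G} (hu : u ∈ cls D d) (hv : v ∈ cls D d) (hne : u ≠ v)
    (hbad : Commute x (u * v * x * (u * v))) (hy : y ∈ D) (hyu : ¬ Commute y u) :
    Commute y (u * v * y * (u * v)) := by
  by_contra hgood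
  obtain ⟨f, hf, hfE, hfq, hyf, hyj, -⟩ := h.exists_third hy hu hv hne hgood
  have huv := h.cls_comm hu hv
  set q := u * v with hq
  have hq2 : q * q = 1 := by
    rw [hq, huv.symm.mul_mul_mul_comm, h.sq u hu.1, h.sq v hv.1, one_mul]
  have hqi : q⁻¹ = q := inv_eq_of_mul_eq_one_right hq2
  clear_value q
  have hxf : ¬ Commute f x := h.not_comm_both hf hu (hfE u hu)
  set j := f * q with hj
  have hj2 : j * j = 1 := by rw [hj, hfq.symm.mul_mul_mul_comm, h.sq f hf, hq2, one_mul]
  have hji : j⁻¹ = j := inv_eq_of_mul_eq_one_right hj2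
  have hx' : j * x * j ∈ D := by
    have := h.conj j x h.xmem
    rwa [hji] at this
  have hqxq : q * x * q ∈ D := by
    have := h.conj q x h.xmem
    rwa [hqi] at this
  have hnx : ¬ Commute x (j * x * j) := by
    intro e
    apply hxf
    refine (h.target hqxq hf (fun e' => hxf ?_) hbad ?_).symm
    · have h2 := (commute_conj_iff q).2 e'
      rw [hqi, show q * (q * x * q) * q = x by
          rw [← mul_assoc, ← mul_assoc, hq2, one_mul, mul_assoc, hq2, mul_one],
        ← hfq.eq, mul_assoc f q q, hq2, mul_one] at h2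
      exact h2.symm
    · rwa [show f * (q * x * q) * f = j * x * j by
        rw [hj, ← mul_assoc, ← mul_assoc, mul_assoc (f * q * x) q f, ← hfq.eq]]
  obtain ⟨g, ⟨σ, hσ⟩, hgj, hxgj, hgx, -⟩ :=
    exists_third' (h.sq x h.xmem) hj2 (h.pair x h.xmem _ hx' hnx)
  have hg : g ∈ D := hσ ▸ h.conj σ x h.xmem
  have hju : ∀ e ∈ cls D d, Commute j e := fun e he =>
    (hfE e he).mul_left (hq ▸ (h.cls_comm hu he).mul_left (h.cls_comm hv he))
  by_cases hgu : Commute g u
  · have hgE : ∀ e ∈ cls D d, Commute g e := fun e he => h.comm_cls hg hu he hgu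
    have hz : g * j ∈ Subgroup.center G :=
      h.eq_center hxgj.symm fun e he => (hgE e he).mul_left (hju e he)
    have hgq : Commute g q := hq ▸ (hgE u hu).mul_right (hgE v hv)
    have hgf : Commute g f := by
      have := hgj.mul_right hgq
      rwa [hj, mul_assoc, hq2, mul_one] at this
    have hgne : g ≠ f := by
      intro e
      rw [e, hj, ← mul_assoc, h.sq f hf, one_mul] at hz
      exact hgood (by
        rw [← Subgroup.mem_center_iff.1 hz y, mul_assoc, hq2, mul_one])
    have hsub : {c | c ∈ D ∧ Commute c u} ⊆ {c | c ∈ D ∧ Commute c g} := by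
      rintro c ⟨hc, hcu⟩
      have hcq : Commute c q := hq ▸ hcu.mul_right (h.comm_cls hc hu hv hcu)
      have h2 : Commute c (g * f) := by
        have := Commute.mul_right (Subgroup.mem_center_iff.1 hz c) hcq
        rwa [hj, ← mul_assoc, mul_assoc _ q q, hq2, mul_one] at this
      exact ⟨hc, (h.comm_pair hc hg hf hgf hgne h2).1⟩
    obtain ⟨τ, hτ⟩ := h.conjg u hu.1 g hg
    have himg : {c | c ∈ D ∧ Commute c g} = (fun c => τ * c * τ⁻¹) '' {c | c ∈ D ∧ Commute c u} := by
      ext c
      constructor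
      · rintro ⟨hc, hcg⟩
        refine ⟨τ⁻¹ * c * τ⁻¹⁻¹, ⟨h.conj _ c hc, ?_⟩, by group⟩
        rw [← commute_conj_iff τ, hτ]
        simpa [mul_assoc] using hcg
      · rintro ⟨c, ⟨hc, hcu⟩, rfl⟩
        exact ⟨h.conj τ c hc, hτ ▸ (commute_conj_iff τ).2 hcu⟩
    have heq := Set.eq_of_subset_of_ncard_le hsub (by
      rw [himg]; exact Set.ncard_image_le (Set.toFinite _))
    have hyg : Commute y g := by
      have := Commute.mul_right (Subgroup.mem_center_iff.1 hz y) hyj
      rwa [mul_assoc, hj2, mul_one] at this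
    exact hyu ((Set.ext_iff.1 heq y).2 ⟨hy, hyg⟩).2
  obtain ⟨k, ⟨τ, hτ⟩, hkg, hku, hkc⟩ := exists_swap (h.sq g hg) (h.sq u hu.1) (h.pair g hg u hu.1 hgu)
  have hk : k ∈ D := hτ ▸ h.conj τ g hg
  have hkj : Commute j k := hkc j hgj.symm (hju u hu)
  have hki := h.inv_eq hk
  set x1 := k * x * k with hx1
  have hx1D : x1 ∈ D := h.conj' hk h.xmem
  have hx1fv : Commute x1 (f * v) := by
    have h2 := (commute_conj_iff k).2 hxgj
    rw [conj_mul, hki, ← hx1, hkg, show k * j * k = j by
      rw [← hkj.eq, mul_assoc, h.sq k hk, mul_one], hj, hq,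
      ← mul_assoc, ← mul_assoc, (hfE u hu).symm.eq, mul_assoc f u u, h.sq u hu.1, mul_one] at h2
    exact h2
  have hfv : f ≠ v := by
    intro e
    have : j = u := by rw [hj, hq, e, huv.eq, ← mul_assoc, h.sq v hv.1, one_mul]
    exact hyu (this ▸ hyj)
  have hx1v := (h.comm_pair hx1D hf hv.1 (hfE v hv) hfv hx1fv).2
  have h3 := (commute_conj_iff k).2 (h.comm_cls hx1D hv hu hx1v)
  rw [hki, hku, hx1, show k * (k * x * k) * k = x by
    rw [← mul_assoc, ← mul_assoc, h.sq k hk, one_mul, mul_assoc, h.sq k hk, mul_one]] at h3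
  apply hnx
  rw [← hgx, ← h3.eq, mul_assoc, h.sq g hg, mul_one]

/-- A bad product lies in the largest normal 2-subgroup. -/
lemma mem_core_of_bad {u v : G} (hu : u ∈ cls D d) (hv : v ∈ cls D d) (hne : u ≠ v)
    (hbad : Commute x (u * v * x * (u * v))) : u * v ∈ Cfsg.pCore 2 G := by
  have huv := h.cls_comm hu hv
  set q := u * v with hq
  have hq2 : q * q = 1 := by
    rw [hq, huv.symm.mul_mul_mul_comm, h.sq u hu.1, h.sq v hv.1, one_mul]
  have : Fact (Nat.Prime 2) := ⟨Nat.prime_two⟩
  have hzp : IsPGroup 2 (Subgroup.zpowers q) := by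
    refine (isPGroup_pair hq2 hq2 (by rw [hq2, one_pow])).to_le ?_
    rw [Subgroup.zpowers_le]
    exact Subgroup.subset_closure (Or.inl rfl)
  suffices hall : ∀ σ : G, IsPGroup 2 (Subgroup.closure ({q, σ * q * σ⁻¹} : Set G)) by
    obtain ⟨N, hN, hN2, hqN⟩ := Cfsg.Agent.Lib.Involutions.BaerSuzuki.baer_suzuki_elem hzp hall
    exact Cores.le_pCore (hN := hN) hN2 hqN
  intro σ
  set u' := σ * u * σ⁻¹ with hu'
  set v' := σ * v * σ⁻¹ with hv'
  have e : σ * q * σ⁻¹ = u' * v' := conj_mul σ u v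
  clear_value q u' v'
  have hu'D : u' ∈ D := hu' ▸ h.conj σ u hu.1
  refine isPGroup_pair hq2 (conj_sq hq2 σ) ?_
  rw [e]
  have hpull : ∀ a ∈ D, Commute a u' → Commute a v' := fun a ha hc =>
    hv' ▸ ((h.eqv_conj σ (hu.2.symm.trans hv.2)) a ha).1 (hu' ▸ hc)
  by_cases huu : Commute u u'
  · have h1 : Commute u v' := hpull u hu.1 huu
    have h2 : Commute v u' := (h.comm_cls hu'D hu hv huu.symm).symm
    have h3 : Commute v v' := hpull v hv.1 h2
    have hc : Commute q (u' * v') := hq ▸ (huu.mul_right h1).mul_left (h2.mul_right h3)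
    have h4 : u' * v' * (u' * v') = 1 := by rw [← e]; exact conj_sq hq2 σ
    rw [hc.mul_pow, show 4 = 2 * 2 by rfl, pow_mul, pow_mul, pow_two q, hq2, pow_two (u' * v'), h4,
      one_pow, one_mul]
  obtain ⟨y, ⟨τ, hτ⟩, hy1, hy2, -⟩ :=
    exists_swap (h.sq u hu.1) (h.sq u' hu'D) (h.pair u hu.1 u' hu'D huu)
  have hy : y ∈ D := hτ ▸ h.conj τ u hu.1
  have hyi := h.inv_eq hy
  have hyy := h.sq y hy
  have hyu : ¬ Commute y u := by
    intro hc
    apply huu
    rw [← hy1, hc.eq, mul_assoc, hyy, mul_one]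
  have hyu' : ¬ Commute y u' := by
    intro hc
    apply hyu
    rw [← hy2, hc.eq, mul_assoc, hyy, mul_one]
    exact hc
  -- badness for the conjugate pair
  have hb' : Commute y (u' * v' * y * (u' * v')) := by
    have h1 := h.bad_all hu hv hne (hq ▸ hbad) (h.conj σ⁻¹ y hy) fun hc => hyu' (by
      have := (commute_conj_iff σ).2 hc
      rw [hu']
      simpa [mul_assoc] using this)
    rw [← hq] at h1
    have h2 := (commute_conj_iff σ).2 h1
    rw [inv_inv, conj_mul σ (q * (σ⁻¹ * y * σ)) q, conj_mul σ q (σ⁻¹ * y * σ), e] at h2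
    simpa [mul_assoc] using h2
  set v'' := y * v' * y with hv''
  have hv''cls : v'' ∈ cls D d := by
    refine ⟨hv'' ▸ hv' ▸ h.conj' hy (h.conj σ v hv.1), hu.2.trans ?_⟩
    have h1 := h.eqv_conj y (h.eqv_conj σ (hu.2.symm.trans hv.2))
    rwa [← hu', ← hv', hyi, hy2, ← hv''] at h1
  clear_value v''
  set q' := u * v'' with hq'
  have hconjq : y * (u' * v') * y = q' := by
    have := conj_mul y u' v'
    rw [hyi, hy2, ← hv''] at this
    exact this
  have hq'e : u' * v' = y * q' * y := by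
    rw [← hconjq, ← mul_assoc, ← mul_assoc, hyy, one_mul, mul_assoc, hyy, mul_one]
  have hb : Commute y (q' * y * q') := by
    have h1 := (commute_conj_iff y).2 hb'
    rw [hyi, hyy, one_mul, hq'e] at h1
    rwa [show y * (y * q' * y * y * (y * q' * y)) * y = q' * y * q' by
      simp [mul_assoc, hyy, ← mul_assoc y y]] at h1
  have hb0 : Commute y (q * y * q) := by
    have := h.bad_all hu hv hne (hq ▸ hbad) hy hyu
    rwa [← hq] at this
  have hE : ∀ a ∈ cls D d, ∀ b ∈ cls D d, a * b * (a * b) = 1 := fun a ha b hb => by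
    rw [(h.cls_comm hb ha).mul_mul_mul_comm, h.sq a ha.1, h.sq b hb.1, one_mul]
  have hq'2 : q' * q' = 1 := hE u hu v'' hv''cls
  have hqq : Commute q q' := hq ▸
    ((h.cls_comm hu hu).mul_right (h.cls_comm hu hv''cls)).mul_left
      ((h.cls_comm hv hu).mul_right (h.cls_comm hv hv''cls))
  clear_value q'
  set a := q * q' with ha
  have ha2 : a * a = 1 := by rw [ha, hqq.symm.mul_mul_mul_comm, hq2, hq'2, one_mul]
  have hav : a = v * v'' := by
    rw [ha, hq, hq', huv.eq, mul_assoc, ← mul_assoc u u, h.sq u hu.1, one_mul]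
  have hqa : q * a = q' := by rw [ha, ← mul_assoc, hq2, one_mul]
  have haq : a * q = q' := by rw [ha, hqq.eq, mul_assoc, hq2, mul_one]
  have hq'a : q' * a = q := by rw [ha, hqq.eq, ← mul_assoc, hq'2, one_mul]
  have haq' : a * q' = q := by rw [ha, mul_assoc, hq'2, mul_one]
  have hqq' : q' * q = a := by rw [ha, hqq.eq]
  clear_value a
  have hba : Commute y (a * y * a) := by
    by_contra hgood
    have hvv : v ≠ v'' := by
      intro e'
      apply hgood
      rw [hav, ← e', h.sq v hv.1]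
      simp
    rw [hav] at hgood
    obtain ⟨f, hf, hfE, -, hyf, -, hfy⟩ := h.exists_third hy hv hv''cls hvv hgood
    rw [← hav] at hfy
    have hqD : q * y * q ∈ D := by
      have := h.conj q y hy
      rwa [inv_eq_of_mul_eq_one_right hq2] at this
    have h1 : Commute (q * y * q) (a * y * a) := by
      have := (commute_conj_iff q).2 hb
      rw [inv_eq_of_mul_eq_one_right hq2] at this
      rwa [show q * (q' * y * q') * q = a * y * a by
        rw [← mul_assoc, ← mul_assoc, ← ha, mul_assoc (a * y) q' q, hqq']] at this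
    have h2 : Commute (q * y * q) f := h.target hy hf hyf hb0.symm (hfy ▸ h1)
    have hfq : Commute f q := hq ▸ (hfE u hu).mul_right (hfE v hv)
    apply hyf
    have h3 := (commute_conj_iff q).2 h2
    rwa [inv_eq_of_mul_eq_one_right hq2, show q * (q * y * q) * q = y by
      rw [← mul_assoc, ← mul_assoc, hq2, one_mul, mul_assoc, hq2, mul_one],
      ← hfq.eq, mul_assoc f q q, hq2, mul_one] at h3
  -- the conjugates of `y` under `q, q'` commute
  set p := q' * y * q' with hp
  have hai : a⁻¹ = a := inv_eq_of_mul_eq_one_right ha2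
  have hpp : p * p = 1 := by
    rw [hp]; simp [mul_assoc, ← mul_assoc q' q', hq'2, ← mul_assoc y y, hyy]
  clear_value p
  set w := p * y with hw
  have hw2 : w * w = 1 := by
    rw [hw, hb.mul_mul_mul_comm, hpp, hyy, one_mul]
  have he1 : q * (u' * v') = a * w := by
    rw [hq'e, hw, hp, ha]
    simp [mul_assoc, ← mul_assoc q' q', hq'2]
  clear_value w
  rw [he1]
  have hapa : a * p * a = q * y * q := by
    rw [hp, ← mul_assoc, ← mul_assoc, haq', mul_assoc (q * y) q' a, hq'a]
  have hawa : a * w * a = q * y * q * (a * y * a) := by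
    rw [← hapa, hw]
    simp [mul_assoc, ← mul_assoc a a, ha2]
  have hcomm : Commute w (a * w * a) := by
    rw [hawa, hw]
    have h1 : Commute p (q * y * q) := by
      have := (commute_conj_iff q).2 hba
      rw [inv_eq_of_mul_eq_one_right hq2] at this
      rw [hp]
      rwa [show q * (a * y * a) * q = q' * y * q' by
        rw [← mul_assoc, ← mul_assoc, hqa, mul_assoc (q' * y) a q, haq], Commute.symm_iff] at this
    have h2 : Commute p (a * y * a) := by
      have := (commute_conj_iff q').2 hb0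
      rw [inv_eq_of_mul_eq_one_right hq'2] at this
      rw [hp]
      rwa [show q' * (q * y * q) * q' = a * y * a by
        rw [← mul_assoc, ← mul_assoc, hqq', mul_assoc (a * y) q q', ← ha]] at this
    exact (h1.mul_right h2).mul_left (hb0.mul_right hba)
  have h5 : a * w * (a * w) = a * w * a * w := by rw [mul_assoc (a * w) a w]
  rw [show 4 = 2 * 2 by rfl, pow_mul, pow_two (a * w), h5, pow_two, hcomm.mul_mul_mul_comm, hw2,
    mul_one]
  simp [mul_assoc, ← mul_assoc a a, ha2, ← mul_assoc w w, hw2]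

/-- For two members of the class, their product is in the core or is congruent to a member. -/
theorem dichotomy {u v : G} (hu : u ∈ cls D d) (hv : v ∈ cls D d) :
    u * v ∈ Cfsg.pCore 2 G ∨ ∃ f ∈ D, f * (u * v) ∈ Cfsg.pCore 2 G := by
  by_cases hne : u = v
  · subst hne
    exact Or.inl (by rw [h.sq u hu.1]; exact one_mem _)
  by_cases hbad : Commute x (u * v * x * (u * v))
  · exact Or.inl (h.mem_core_of_bad hu hv hne hbad)
  obtain ⟨f, hf, hfE, hfq, -, hxj, -⟩ := h.exists_third h.xmem hu hv hne hbad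
  refine Or.inr ⟨f, hf, ?_⟩
  have huv := h.cls_comm hu hv
  have hz : f * (u * v) ∈ Subgroup.center G := h.eq_center hxj.symm fun e he =>
    (hfE e he).mul_left ((h.cls_comm hu he).mul_left (h.cls_comm hv he))
  have hj2 : f * (u * v) * (f * (u * v)) = 1 := by
    rw [hfq.symm.mul_mul_mul_comm, h.sq f hf, huv.symm.mul_mul_mul_comm, h.sq u hu.1, h.sq v hv.1,
      one_mul, one_mul]
  have : (Subgroup.zpowers (f * (u * v))).Normal := ⟨fun n hn g => by
    have hnz : n ∈ Subgroup.center G := Subgroup.zpowers_le.2 hz hn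
    rwa [Subgroup.mem_center_iff.1 hnz g, mul_inv_cancel_right]⟩
  refine Cores.le_pCore ((isPGroup_pair hj2 hj2 (by rw [hj2, one_pow])).to_le ?_)
    (Subgroup.mem_zpowers _)
  rw [Subgroup.zpowers_le]
  exact Subgroup.subset_closure (Or.inl rfl)

end Gen

end Cfsg.Agent.Lib.OddTransp84.Reduction
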